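import Groth.Agent.Lib.Cube.NN.Stage
import Groth.Agent.Lib.Cube.Global
import Groth.Agent.Lib.Cube.Seesaw
import Groth.Agent.Lib.Cube.SeesawGlobal
import Groth.Agent.Lib.Cube.Finiteness

/-!
# The theorem of the cube over an arbitrary base

The points with trivial fibre form an open and closed set, over which the cocycle is trivial.
-/

set_option autoImplicit false
set_option linter.style.haveILetI false

universe u

open CategoryTheory CategoryTheory.Limits AlgebraicGeometry TopologicalSpace Opposite IsLocalRing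

namespace Groth.Agent.Lib.Cube.NN

open Groth.Agent.H97.GlueLine (Cocycle)
open Groth.Agent.Lib.TensorMod.Dual (rf rf_rf rf_self)
open Groth.Agent.Lib.Cube.Triv Groth.Agent.Lib.Cube.Dvr
open Groth.Agent.Lib.Cube.Rigid (IsSec)
open Groth.Agent.Lib.Cube.Special (invC)
open Groth.Agent.Lib.Cube.Global (Fib)

noncomputable section

/-- Flat surjective morphisms are injective on sections. -/
theorem injective_app {P Q : Scheme.{u}} (f : P ⟶ Q) [Flat f] [Surjective f] (U : Q.Opens) :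
    Function.Injective (f.app U).hom := by
  rw [injective_iff_map_eq_zero]
  intro a ha
  refine TopCat.Presheaf.IsSheaf.section_ext Q.IsSheaf (fun y hy => ?_)
  obtain ⟨x, rfl⟩ := f.surjective y
  have h0 : Q.presheaf.germ U (f x) hy a = 0 := by
    apply H2.Rigid.stalkMap_injective_of_flat f x
    rw [map_zero]
    refine (Scheme.Hom.germ_stalkMap_apply f U x hy a).trans ?_
    exact (congrArg _ ha).trans (map_zero _)
  obtain ⟨W, hxW, i₁, i₂, e⟩ := Q.presheaf.germ_eq (U := U) (V := U) (f x) hy hy a 0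
    (h0.trans (map_zero _).symm)
  exact ⟨W, i₁.le, hxW, e⟩

/-- A morphism to the spectrum of a field is flat. -/
theorem flat_of_field {K L : CommRingCat.{u}} (hK : IsField K) (f : Spec L ⟶ Spec K) : Flat f := by
  letI := hK.toField
  obtain ⟨φ, rfl⟩ := Spec.map_surjective f
  algebraize [φ.hom]
  refine (HasRingHomProperty.Spec_iff (P := @Flat)).2 ?_
  exact (inferInstance : Module.Flat K L)

/-- The base change to a field of geometrically integral data is integral with constant functions. -/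
theorem integral_fibre {S : Scheme.{u}} (C : Ctx S) [GeometricallyIntegral C.px]
    [GeometricallyIntegral C.py] [LocallyOfFinitePresentation C.py] [IsAffine S]
    {K : Type u} [Field K] (ψ : Spec (CommRingCat.of K) ⟶ S) :
    IsIntegral (C.bcW ψ) ∧ Function.Bijective (C.bcBase ψ).appTop.hom := by
  haveI : IsAffineHom ψ := isAffineHom_of_isAffine ψ
  let C' := C.bc ψ
  haveI : GeometricallyIntegral C'.px := inferInstanceAs (GeometricallyIntegral (pullback.snd C.px ψ))
  haveI : GeometricallyIntegral C'.py := inferInstanceAs (GeometricallyIntegral (pullback.snd C.py ψ))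
  haveI : LocallyOfFinitePresentation C'.py :=
    inferInstanceAs (LocallyOfFinitePresentation (pullback.snd C.py ψ))
  haveI : GeometricallyIntegral C'.fx := MorphismProperty.of_isPullback C'.H.flip inferInstance
  haveI : LocallyOfFinitePresentation C'.fx := MorphismProperty.of_isPullback C'.H.flip inferInstance
  haveI : IsIntegral C'.X := GeometricallyIntegral.isIntegral_of_subsingleton C'.px
  haveI : IsLocallyNoetherian C'.X := LocallyOfFiniteType.isLocallyNoetherian C'.px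
  have hW : IsIntegral C'.W := GeometricallyIntegral.isIntegral_of_isLocallyNoetherian C'.fx
  refine ⟨hW, ?_⟩
  have e : C'.pw = C.bcBase ψ := pullback.lift_snd _ _ _
  rw [← e]
  exact Rigid.bijective_pw_app C' ⊤

/-- With fields as bases the structure sheaf is pushed forward. -/
instance pushes_of_fp {S : Scheme.{u}} (C : Ctx S) [LocallyOfFinitePresentation C.px]
    [LocallyOfFinitePresentation C.py] : Rigid.Pushes C where
  py V := H2.Rigid.PushFlat.push_of_section C.py C.hy C.y₀ C.hy₀ V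
  pw V := by
    haveI : LocallyOfFinitePresentation C.fx := MorphismProperty.of_isPullback C.H.flip inferInstance
    have h1 := H2.Rigid.PushFlat.push_of_section C.px C.hx C.x₀ C.hx₀ V
    have h2 := H2.Rigid.PushFlat.push_of_section C.fx (C.hy.of_isPullback C.H.flip) C.j C.hj₁
      (C.px ⁻¹ᵁ V)
    exact h2.comp h1

section Affine

variable {B R : CommRingCat.{u}} [IsNoetherianRing R] (C : Ctx (Spec B)) [GeometricallyIntegral C.px]
  [GeometricallyIntegral C.py] [LocallyOfFinitePresentation C.px] [LocallyOfFinitePresentation C.py]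
  (C' : Ctx (Spec R)) [Finite C'.ι] (π : Spec B ⟶ Spec R) (q : C.W ⟶ C'.W)
  (h : IsPullback q C.pw C'.pw π)
  (hq : ∀ {P : Scheme.{u}} (f : P ⟶ C.W), TrivAlong C'.c (f ≫ q) ↔ TrivAlong C.c f)

include h hq in
omit [IsNoetherianRing R] [GeometricallyIntegral C.px] [GeometricallyIntegral C.py]
  [LocallyOfFinitePresentation C.px] [LocallyOfFinitePresentation C.py] [Finite C'.ι] in
theorem fib_iff (s : Spec B) : Fib C s ↔ Fib C' (π s) := by
  let ψ := (Spec B).fromSpecResidueField s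
  have sq := (IsPullback.of_hasPullback C.pw ψ).paste_horiz h
  let e := sq.isoPullback
  have hs : (ψ ≫ π) (closedPoint _) = π s :=
    congrArg π ((Spec B).fromSpecResidueField_apply s _)
  constructor
  · intro hT
    refine Global.fib_of hs (((hq _).2 hT).comp e.inv |>.of_eq ?_)
    exact sq.isoPullback_inv_fst
  · intro hT
    refine (hq _).1 (((Global.of_fib C' hs hT).comp e.hom).of_eq ?_)
    exact sq.isoPullback_hom_fst

omit [Finite C'.ι] in
/-- The open set of trivial fibres. -/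
theorem isOpen_fib : IsOpen {x : Spec R | Fib C' x} := by
  rw [isOpen_iff_forall_mem_open]
  intro x hx
  obtain ⟨V, hxV, v, hu, hv⟩ := Global.exists_nhd Finiteness.finH1 hx
  exact ⟨V, fun y hy => Global.fib_of_sec hu hv hy, V.isOpen, hxV⟩

include h hq in
omit [GeometricallyIntegral C.px] [GeometricallyIntegral C.py]
  [LocallyOfFinitePresentation C.px] [LocallyOfFinitePresentation C.py] [Finite C'.ι] in
theorem exists_sec {s : Spec B} (hs : Fib C s) :
    ∃ V : (Spec B).Opens, s ∈ V ∧ ∃ v : ∀ a, Γ(C.W, C.U a ⊓ C.pw ⁻¹ᵁ V),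
      (∀ a, IsUnit (v a)) ∧ IsSec C.c (C.pw ⁻¹ᵁ V) v := by
  obtain ⟨V, hxV, v, hu, hv⟩ := Global.exists_nhd Finiteness.finH1 ((fib_iff C C' π q h hq s).1 hs)
  let O := C.pw ⁻¹ᵁ (π ⁻¹ᵁ V)
  have hr : Set.range (O.ι ≫ q) ⊆ Set.range (C'.pw ⁻¹ᵁ V).ι := by
    rw [Scheme.Opens.range_ι]
    rintro _ ⟨z, rfl⟩
    show C'.pw (q (O.ι z)) ∈ V
    rw [← Scheme.Hom.comp_apply, h.w, Scheme.Hom.comp_apply]
    exact z.2
  have hT : TrivAlong C.c O.ι := (hq _).1 (((Global.trivAlong_ι hu hv).comp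
    (IsOpenImmersion.lift (C'.pw ⁻¹ᵁ V).ι (O.ι ≫ q) hr)).of_eq (IsOpenImmersion.lift_fac _ _ hr))
  exact ⟨π ⁻¹ᵁ V, hxV, Rigid.exists_sec_of_isOpenImmersion C.c O.ι O.opensRange_ι.ge hT⟩

include h hq in
theorem isClosed_fib : IsClosed {s : Spec B | Fib C s} := by
  letI : C'.W.Over (Spec (CommRingCat.of R)) := ⟨C'.pw⟩
  haveI : IsProper (C'.W ↘ Spec (CommRingCat.of R)) := inferInstanceAs (IsProper C'.pw)
  haveI : Flat (C'.W ↘ Spec (CommRingCat.of R)) := inferInstanceAs (Flat C'.pw)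
  let O₁ := {x : PrimeSpectrum R | ∀ y, IsRel (Triv.comap C'.c (Seesaw.fibMap (W := C'.W) x)) y → y = 0}
  let O₂ := {x : PrimeSpectrum R |
    ∀ y, IsRel (Triv.comap (invC C'.c) (Seesaw.fibMap (W := C'.W) x)) y → y = 0}
  have hopen : IsOpen (O₁ ∪ O₂) :=
    (Seesaw.isOpen_noFam (A := R) C'.c C'.hU C'.hUc).union
      (Seesaw.isOpen_noFam (A := R) (invC C'.c) C'.hU C'.hUc)
  suffices key : {s : Spec B | Fib C s}ᶜ = π ⁻¹' (O₁ ∪ O₂) by
    rw [← isOpen_compl_iff, key]
    exact hopen.preimage π.continuous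
  ext s
  rw [Set.mem_compl_iff, Set.mem_ofPred_eq, Set.mem_preimage]
  let x : PrimeSpectrum R := π s
  let K := x.asIdeal.ResidueField
  let ψx : Spec (CommRingCat.of K) ⟶ Spec (CommRingCat.of R) :=
    Spec.map (CommRingCat.ofHom (algebraMap R K))
  let g' := Seesaw.fibMap (W := C'.W) x
  have hψx : ψx (closedPoint K) = x := by
    refine PrimeSpectrum.ext ?_
    show Ideal.comap (algebraMap R K) (maximalIdeal K) = x.asIdeal
    rw [IsLocalRing.maximalIdeal_eq_bot, ← RingHom.ker_eq_comap_bot]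
    exact Ideal.ker_algebraMap_residueField x.asIdeal
  -- the residue field upstairs
  let ψ := (Spec B).fromSpecResidueField s
  have hψ : (ψ ≫ π) (closedPoint ((Spec B).residueField s)) = π s :=
    congrArg π ((Spec B).fromSpecResidueField_apply s _)
  let jx : Spec (CommRingCat.of K) ⟶ Spec ((Spec R).residueField (π s)) :=
    SeesawGlobal.jHom (𝟙 (Spec (CommRingCat.of R))) x
  haveI : IsIso jx := SeesawGlobal.isIso_jHom _ _
  let ρ : Spec ((Spec B).residueField s) ⟶ Spec (CommRingCat.of K) :=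
    Spec.map (π.residueFieldMap s) ≫ inv jx
  have hρ : ρ ≫ ψx = ψ ≫ π := by
    have e1 : ψx = jx ≫ (Spec (CommRingCat.of R)).fromSpecResidueField x :=
      ((SeesawGlobal.jHom_fromSpec (𝟙 (Spec (CommRingCat.of R))) x).trans (Category.comp_id _)).symm
    rw [e1]
    simp only [ρ, Category.assoc, IsIso.inv_hom_id_assoc]
    exact π.SpecMap_residueFieldMap_fromSpecResidueField s
  haveI : Flat ρ := flat_of_field (Field.toIsField K) ρ
  haveI : Surjective ρ := ⟨fun z => ⟨closedPoint _, Subsingleton.elim _ _⟩⟩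
  let g : C'.bcW (ψ ≫ π) ⟶ C'.bcW ψx := pullback.lift (C'.bcMap (ψ ≫ π)) (C'.bcBase (ψ ≫ π) ≫ ρ)
    (by rw [Category.assoc, hρ]; exact pullback.condition)
  have hg : IsPullback g (C'.bcBase (ψ ≫ π)) (C'.bcBase ψx) ρ := by
    refine IsPullback.of_right ?_ (pullback.lift_snd _ _ _) (IsPullback.of_hasPullback C'.pw ψx)
    rw [pullback.lift_fst, hρ]
    exact IsPullback.of_hasPullback C'.pw (ψ ≫ π)
  haveI : Flat g := MorphismProperty.of_isPullback hg.flip ‹Flat ρ›
  haveI : Surjective g := MorphismProperty.of_isPullback hg.flip ‹Surjective ρ›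
  -- the fibre upstairs
  have sq := (IsPullback.of_hasPullback C.pw ψ).paste_horiz h
  obtain ⟨hint, hbij⟩ := integral_fibre C ψ
  haveI : IsIntegral (pullback C.pw ψ) := hint
  haveI : IsIntegral (C'.bcW (ψ ≫ π)) := by
    haveI : Nonempty (C'.bcW (ψ ≫ π)) := ⟨sq.isoPullback.hom (Classical.arbitrary _)⟩
    exact isIntegral_of_isOpenImmersion sq.isoPullback.inv
  have hbij' : Function.Bijective (C'.bcBase (ψ ≫ π)).appTop.hom := by
    rw [show C'.bcBase (ψ ≫ π) = sq.isoPullback.inv ≫ C.bcBase ψ from sq.isoPullback_inv_snd.symm,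
      Scheme.Hom.comp_appTop]
    haveI : IsIso sq.isoPullback.inv.appTop :=
      inferInstanceAs (IsIso (Scheme.Γ.map sq.isoPullback.inv.op))
    exact (ConcreteCategory.bijective_of_isIso sq.isoPullback.inv.appTop).comp hbij
  have hUc' : iSup (fun a => g' ⁻¹ᵁ C'.U a) = ⊤ := by
    rw [← Scheme.Hom.preimage_iSup, C'.hUc]; rfl
  constructor
  · intro hn
    by_contra hcon
    rw [Set.mem_union, not_or] at hcon
    obtain ⟨h₁, h₂⟩ := hcon
    have h₁' : ¬ ∀ y, IsRel (Triv.comap C'.c g') y → y = 0 := h₁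
    have h₂' : ¬ ∀ y, IsRel (Triv.comap (invC C'.c) g') y → y = 0 := h₂
    simp only [not_forall] at h₁' h₂'
    obtain ⟨y, hy, hy0⟩ := h₁'
    obtain ⟨y', hy', hy0'⟩ := h₂' 
    have hinj := injective_app g
    let z : ∀ a, Γ(C'.bcW (ψ ≫ π), g ⁻¹ᵁ (g' ⁻¹ᵁ C'.U a)) := fun a => (g.app _).hom (y a)
    let z' : ∀ a, Γ(C'.bcW (ψ ≫ π), g ⁻¹ᵁ (g' ⁻¹ᵁ C'.U a)) := fun a => (g.app _).hom (y' a)
    have hz0 : z ≠ 0 := fun e => hy0 (funext fun a =>
      hinj _ ((congrFun e a).trans (map_zero (g.app _).hom).symm))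
    have hz0' : z' ≠ 0 := fun e => hy0' (funext fun a =>
      hinj _ ((congrFun e a).trans (map_zero (g.app _).hom).symm))
    have hz : IsRel (Triv.comap (Triv.comap C'.c g') g) z := hy.comap g
    have hinv : ∀ a b, (Triv.comap (Triv.comap (invC C'.c) g') g).u a b =
        (invC (Triv.comap (Triv.comap C'.c g') g)).u a b := fun a b => by
      show (g.app _).hom ((g'.app (C'.U a ⊓ C'.U b)).hom (rf (inf_comm (C'.U a) (C'.U b)).le (C'.c.u b a))) =
        rf (pre_mono g (pre_mono g' (inf_comm (C'.U a) (C'.U b)).le))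
          ((g.app _).hom ((g'.app (C'.U b ⊓ C'.U a)).hom (C'.c.u b a)))
      rw [Triv.app_rf]
      exact Triv.app_rf g _ _
    have hz' : IsRel (invC (Triv.comap (Triv.comap C'.c g') g)) z' := fun a b V ha hb => by
      have := hy'.comap g a b V ha hb
      rwa [hinv] at this
    have hUc'' : iSup (fun a => g ⁻¹ᵁ (g' ⁻¹ᵁ C'.U a)) = ⊤ :=
      (g.preimage_iSup _).symm.trans ((congrArg (g ⁻¹ᵁ ·) hUc').trans g.preimage_top)
    have hu := Seesaw.isUnit_of_pair (C'.bcBase (ψ ≫ π)) hbij' hUc'' hz hz' hz0 hz0'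
    have hT : TrivAlong C'.c (g ≫ g') := ⟨z, hu, fun a b => by
      refine (hz a b ((g ≫ g') ⁻¹ᵁ (C'.U a ⊓ C'.U b)) (pre_mono (g ≫ g') inf_le_left)
        (pre_mono (g ≫ g') inf_le_right)).trans (congrArg (· * _) ?_)
      exact rf_self _ _⟩
    exact hn ((fib_iff C C' π q h hq s).2 (Global.fib_of hψ (hT.of_eq (pullback.lift_fst _ _ _))))
  · intro hh hF
    have ht : TrivAlong C'.c g' := Global.of_fib C' hψx ((fib_iff C C' π q h hq s).1 hF)
    obtain ⟨z₀⟩ : Nonempty (C'.bcW ψx) := ⟨g (Classical.arbitrary _)⟩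
    obtain ⟨a, hza⟩ := Opens.mem_iSup.1 (show z₀ ∈ iSup (fun a => g' ⁻¹ᵁ C'.U a) from hUc' ▸ trivial)
    haveI : Nonempty (g' ⁻¹ᵁ C'.U a : (C'.bcW ψx).Opens) := ⟨⟨z₀, hza⟩⟩
    haveI : Nontrivial Γ(pullback (C'.W ↘ Spec (CommRingCat.of R)) ψx, g' ⁻¹ᵁ C'.U a) :=
      @Scheme.component_nontrivial (C'.bcW ψx) (g' ⁻¹ᵁ C'.U a) ⟨⟨z₀, hza⟩⟩
    rcases hh with hh | hh
    · obtain ⟨v, hv, he⟩ := ht
      exact (hv a).ne_zero (congrFun (hh v (Special.isRel_of_triv he)) a)
    · obtain ⟨v, hv, he⟩ := Special.trivAlong_invC ht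
      exact (hv a).ne_zero (congrFun (hh v (Special.isRel_of_triv he)) a)

end Affine

variable {S : Scheme.{u}} (C : Ctx S) [GeometricallyIntegral C.px] [GeometricallyIntegral C.py]
  [LocallyOfFinitePresentation C.px] [LocallyOfFinitePresentation C.py]

/-- Near a point: the trivial fibres are open and closed, with trivialisations over the base. -/
theorem exists_local (s : S) : ∃ V : S.Opens, s ∈ V ∧
    IsOpen {t : S | t ∈ V ∧ ¬ Fib C t} ∧
    ∀ t ∈ V, Fib C t → ∃ V' : S.Opens, t ∈ V' ∧ ∃ v : ∀ a, Γ(C.W, C.U a ⊓ C.pw ⁻¹ᵁ V'),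
      (∀ a, IsUnit (v a)) ∧ IsSec C.c (C.pw ⁻¹ᵁ V') v := by
  obtain ⟨_, ⟨V₀, hV₀, rfl⟩, hsV₀, -⟩ := S.isBasis_affineOpens.exists_subset_of_mem_open
    (Set.mem_univ s) isOpen_univ
  let φ := hV₀.fromSpec
  haveI : IsOpenImmersion φ := hV₀.isOpenImmersion_fromSpec
  obtain ⟨ι', _, σ, U', hU', hUc', hσ⟩ := C.exists_finite_cover φ
  let C₀ := C.bcCover φ σ U' hU' hUc' hσ
  haveI : Finite C₀.ι := ‹Finite ι'›
  haveI : GeometricallyIntegral C₀.px := inferInstanceAs (GeometricallyIntegral (pullback.snd C.px φ))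
  haveI : GeometricallyIntegral C₀.py := inferInstanceAs (GeometricallyIntegral (pullback.snd C.py φ))
  haveI : LocallyOfFinitePresentation C₀.px :=
    inferInstanceAs (LocallyOfFinitePresentation (pullback.snd C.px φ))
  haveI : LocallyOfFinitePresentation C₀.py :=
    inferInstanceAs (LocallyOfFinitePresentation (pullback.snd C.py φ))
  obtain ⟨R, hR, C', hfin, π, q, h, hq⟩ := exists_stage C₀
  have hbc : ∀ x, Fib C₀ x ↔ Fib C (φ x) := fun x => by
    have hx : ((Spec _).fromSpecResidueField x ≫ φ) (closedPoint _) = φ x :=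
      congrArg φ ((Spec _).fromSpecResidueField_apply x _)
    have := Global.trivAlong_bcCover_bcMap C φ σ U' hU' hUc' hσ ((Spec _).fromSpecResidueField x) rfl
    exact this.trans ⟨fun hT => Global.fib_of hx hT, fun hT => Global.of_fib C hx hT⟩
  have hrange : ∀ t ∈ V₀, ∃ x, φ x = t := fun t ht => by
    have : t ∈ Set.range hV₀.fromSpec := by rw [hV₀.range_fromSpec]; exact ht
    exact this
  refine ⟨V₀, hsV₀, ?_, fun t htV hF => ?_⟩
  · have e : {t : S | t ∈ V₀ ∧ ¬ Fib C t} = φ '' {x | Fib C₀ x}ᶜ := by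
      ext t
      constructor
      · rintro ⟨ht, hn⟩
        obtain ⟨x, rfl⟩ := hrange t ht
        exact ⟨x, fun hx => hn ((hbc x).1 hx), rfl⟩
      · rintro ⟨x, hx, rfl⟩
        exact ⟨hV₀.range_fromSpec.le ⟨x, rfl⟩, fun hF => hx ((hbc x).2 hF)⟩
    rw [e]
    exact φ.isOpenEmbedding.isOpenMap _ (isClosed_fib C₀ C' π q h hq).isOpen_compl
  · obtain ⟨x, rfl⟩ := hrange t htV
    obtain ⟨V', hxV', v, hu, hv⟩ := exists_sec C₀ C' π q h hq ((hbc x).2 hF)
    have hpw : C₀.pw = C.bcBase φ := Global.bcCover_pw C φ σ U' hU' hUc' hσ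
    have h5 : TrivAlong C.c ((C₀.pw ⁻¹ᵁ V').ι ≫ C.bcMap φ) :=
      (Ctx.trivAlong_bcCover_iff C φ σ U' hU' hUc' hσ _).1 (Global.trivAlong_ι hu hv)
    have hb : IsOpenImmersion (C.bcMap φ) := MorphismProperty.pullback_fst _ _ inferInstance
    haveI : IsOpenImmersion ((C₀.pw ⁻¹ᵁ V').ι ≫ C.bcMap φ) :=
      MorphismProperty.comp_mem _ (C₀.pw ⁻¹ᵁ V').ι (C.bcMap φ) inferInstance hb
    have hO : C.pw ⁻¹ᵁ (φ ''ᵁ V') ≤ ((C₀.pw ⁻¹ᵁ V').ι ≫ C.bcMap φ).opensRange := by
      rintro z ⟨y, hy, hyz⟩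
      obtain ⟨z', hz', hz''⟩ := Scheme.Pullback.exists_preimage_pullback z y (f := C.pw) (g := φ) hyz.symm
      refine ⟨⟨z', ?_⟩, hz'⟩
      show C₀.pw z' ∈ V'
      rw [hpw]
      exact (congrArg (· ∈ V') hz'').mpr hy
    exact ⟨φ ''ᵁ V', ⟨x, hxV', rfl⟩, Rigid.exists_sec_of_isOpenImmersion C.c _ hO h5⟩

/-- The points with trivial fibre form an open and closed set over which the cocycle is trivial. -/
theorem exists_clopen_fib :
    ∃ T : S.Opens, IsClosed (T : Set S) ∧ (∀ t, Fib C t → t ∈ T) ∧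
      TrivAlong C.c (C.pw ⁻¹ᵁ T).ι := by
  choose V hV hVo hVs using exists_local C
  have hopen : IsOpen {t : S | Fib C t} := by
    rw [isOpen_iff_forall_mem_open]
    intro t ht
    obtain ⟨V', htV', v, hu, hv⟩ := hVs t t (hV t) ht
    exact ⟨V', fun y hy => Global.fib_of_sec hu hv hy, V'.isOpen, htV'⟩
  have hclosed : IsClosed {t : S | Fib C t} := by
    rw [← isOpen_compl_iff, isOpen_iff_forall_mem_open]
    intro t ht
    exact ⟨_, fun y hy => hy.2, hVo t, hV t, ht⟩
  let T : S.Opens := ⟨{t : S | Fib C t}, hopen⟩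
  obtain ⟨v, hu, hv⟩ := Rigid.exists_sec_of_local C T fun t ht => hVs t t (hV t) ht
  exact ⟨T, hclosed, fun t ht => ht, Global.trivAlong_ι hu hv⟩

/-- The theorem of the cube: the trivial fibres form an open and closed set over which the cocycle
is trivial. -/
theorem exists_clopen {z : S} (hz : Fib C z) :
    ∃ T : S.Opens, IsClosed (T : Set S) ∧ z ∈ T ∧ TrivAlong C.c (C.pw ⁻¹ᵁ T).ι :=
  let ⟨T, h₁, h₂, h₃⟩ := exists_clopen_fib C
  ⟨T, h₁, h₂ z hz, h₃⟩

end

end Groth.Agent.Lib.Cube.NN
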