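import Groth.Agent.Lib.Cube.NN.Core
import Groth.Agent.Lib.Cube.SeesawCons

/-!
# The seesaw closed set over an arbitrary base
-/

set_option autoImplicit false
set_option linter.style.haveILetI false

universe u

open CategoryTheory CategoryTheory.Limits AlgebraicGeometry TopologicalSpace Opposite IsLocalRing
open Groth.Agent.Lib.Lim Groth.Agent.Lib.Lim.Basic
open scoped TensorProduct

namespace Groth.Agent.Lib.Cube.NN

open Groth.Agent.H97.GlueLine (Cocycle)
open Groth.Agent.Lib.Cube.Triv Groth.Agent.Lib.Cube.Dvr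
open Groth.Agent.Lib.Cube.Special (invC)
open Groth.Agent.Lib.Cube.FamCx Groth.Agent.Lib.Cube.FamRep Groth.Agent.Lib.Cube.FamFibre

noncomputable section

attribute [local instance] algV

/-- Without non-zero invariant families over a field there are none over an extension. -/
theorem eq_zero_of_isRel_baseChange {κ : Type u} [Field κ] {L : Type u} [Field L] [Algebra κ L]
    {W : Scheme.{u}} [W.Over (Spec (CommRingCat.of κ))] {ι : Type u} [Finite ι] {U : ι → W.Opens}
    (hU : ∀ a, IsAffineOpen (U a)) (hU2 : ∀ a b, IsAffineOpen (U a ⊓ U b)) (c : Cocycle U)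
    {P : Scheme.{u}} {g : P ⟶ W} {p' : P ⟶ Spec (CommRingCat.of L)}
    (H : IsPullback g p' (W ↘ Spec (CommRingCat.of κ)) (Spec.map (CommRingCat.ofHom (algebraMap κ L))))
    (h : ∀ y, IsRel c y → y = 0) {y : ∀ a, Γ(P, g ⁻¹ᵁ U a)} (hy : IsRel (Triv.comap c g) y) : y = 0 := by
  have H' : IsPullback (𝟙 W) (W ↘ Spec (CommRingCat.of κ)) (W ↘ Spec (CommRingCat.of κ))
      (Spec.map (CommRingCat.ofHom (algebraMap κ κ))) := by
    have e : Spec.map (CommRingCat.ofHom (algebraMap κ κ)) = 𝟙 (Spec (CommRingCat.of κ)) := by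
      rw [← Spec.map_id]; rfl
    rw [e]
    exact IsPullback.of_horiz_isIso ⟨by simp⟩
  have hsub : Subsingleton (fam κ c κ) := (Seesaw.subsingleton_fam_iff c hU hU2 H').2 fun z hz =>
    h z fun a b V ha hb => by
      refine (hz a b V ha hb).trans (congrArg (· * _) ?_)
      show Groth.Agent.Lib.TensorMod.Dual.rf _ (((𝟙 W : W ⟶ W).app (U a ⊓ U b)).hom (c.u a b)) = _
      rw [Scheme.Hom.id_app]
      rfl
  have hinj : Function.Injective (dev (A := κ) c) := by
    intro x x' hxx
    rw [← sub_eq_zero] at hxx ⊢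
    rw [← map_sub] at hxx
    have hmem : ((x - x') ⊗ₜ[κ] (1 : κ)) ∈ fam κ c κ := by
      show (dev (A := κ) c).rTensor κ _ = 0
      rw [LinearMap.rTensor_tmul, hxx, TensorProduct.zero_tmul]
    have := congrArg Subtype.val (hsub.elim ⟨_, hmem⟩ 0)
    have e := congrArg (TensorProduct.rid κ _) this
    simpa using e
  have hL := Module.Flat.rTensor_preserves_injective_linearMap (M := L) (dev (A := κ) c) hinj
  have hsubL : Subsingleton (fam κ c L) := subsingleton_of_forall_eq 0 fun z =>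
    Subtype.ext (hL (z.2.trans (map_zero ((dev (A := κ) c).rTensor L)).symm))
  exact (Seesaw.subsingleton_fam_iff c hU hU2 H).1 hsubL y hy

/-- The inverse cocycle pulls back to the inverse cocycle. -/
theorem invC_comap {W P : Scheme.{u}} {ι : Type u} {U : ι → W.Opens} (c : Cocycle U) (g : P ⟶ W)
    (a b : ι) : (Triv.comap (invC c) g).u a b = (invC (Triv.comap c g)).u a b := by
  show (g.app (U a ⊓ U b)).hom (Groth.Agent.Lib.TensorMod.Dual.rf _ (c.u b a)) =
    Groth.Agent.Lib.TensorMod.Dual.rf _ ((g.app (U b ⊓ U a)).hom (c.u b a))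
  exact Triv.app_rf g _ _

/-- Triviality on the fibre over a point, tested on some field point. -/
def TrivPt {X S : Scheme.{u}} (f : X ⟶ S) {ι : Type u} {U : ι → X.Opens} (c : Cocycle U) (t : S) : Prop :=
  ∃ (K : Type u) (_ : Field K) (σ : Spec (CommRingCat.of K) ⟶ S),
    σ (closedPoint K) = t ∧ TrivAlong c (pullback.fst f σ)

section Stage

variable {B R : CommRingCat.{u}} [IsNoetherianRing R] {X : Scheme.{u}} (f : X ⟶ Spec B)
  [IsProper f] [GeometricallyIntegral f] {ι : Type u} {U : ι → X.Opens} (c : Cocycle U)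
  {X' : Scheme.{u}} [X'.Over (Spec (CommRingCat.of R))] [IsProper (X' ↘ Spec (CommRingCat.of R))]
  [Flat (X' ↘ Spec (CommRingCat.of R))] [Finite ι] {V : ι → X'.Opens}
  (hV : ∀ a, IsAffineOpen (V a)) (hVc : iSup V = ⊤) (c' : Cocycle V)
  (π : Spec B ⟶ Spec (CommRingCat.of R)) (q : X ⟶ X')
  (h : IsPullback q f (X' ↘ Spec (CommRingCat.of R)) π)
  (hq : ∀ {P : Scheme.{u}} (g : P ⟶ X), TrivAlong c' (g ≫ q) ↔ TrivAlong c g)

include hV hVc h hq in
theorem isClosed_trivPt_stage : IsClosed {t : Spec B | TrivPt f c t} := by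
  let pW := X' ↘ Spec (CommRingCat.of R)
  let O₁ := {x : PrimeSpectrum R | ∀ y, IsRel (Triv.comap c' (Seesaw.fibMap (W := X') x)) y → y = 0}
  let O₂ := {x : PrimeSpectrum R | ∀ y, IsRel (Triv.comap (invC c') (Seesaw.fibMap (W := X') x)) y → y = 0}
  have hopen : IsOpen (O₁ ∪ O₂) :=
    (Seesaw.isOpen_noFam (A := R) c' hV hVc).union (Seesaw.isOpen_noFam (A := R) (invC c') hV hVc)
  suffices key : {t : Spec B | TrivPt f c t}ᶜ = π ⁻¹' (O₁ ∪ O₂) by
    rw [← isOpen_compl_iff, key]
    exact hopen.preimage π.continuous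
  ext s
  rw [Set.mem_compl_iff, Set.mem_ofPred_eq, Set.mem_preimage]
  let x : PrimeSpectrum R := π s
  let K := x.asIdeal.ResidueField
  let ψx : Spec (CommRingCat.of K) ⟶ Spec (CommRingCat.of R) :=
    Spec.map (CommRingCat.ofHom (algebraMap R K))
  let g' := Seesaw.fibMap (W := X') x
  haveI hsep : IsSeparated pW := inferInstanceAs (IsSeparated (X' ↘ Spec (CommRingCat.of R)))
  haveI : IsAffineHom g' := MorphismProperty.pullback_fst _ _ (isAffineHom_of_isAffine _)
  letI : (pullback pW ψx).Over (Spec (CommRingCat.of K)) := ⟨pullback.snd pW ψx⟩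
  have hV' : ∀ a, IsAffineOpen (g' ⁻¹ᵁ V a) := fun a => (hV a).preimage g'
  have hV2 : ∀ a b, IsAffineOpen (g' ⁻¹ᵁ V a ⊓ g' ⁻¹ᵁ V b) := fun a b =>
    (Seesaw.isAffineOpen_inf R hV a b).preimage g'
  -- any field point over `s` gives a field point over `x`
  have lift : ∀ (Ω : Type u) [Field Ω] (σ : Spec (CommRingCat.of Ω) ⟶ Spec B), σ (closedPoint Ω) = s →
      ∃ (φ : K →+* Ω), Spec.map (CommRingCat.ofHom φ) ≫ ψx = σ ≫ π := by
    intro Ω _ σ hσ
    obtain ⟨⟨t, ν⟩, hν⟩ := (Scheme.SpecToEquivOfField Ω (Spec (CommRingCat.of R))).symm.surjective (σ ≫ π)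
    replace hν : Spec.map ν ≫ (Spec (CommRingCat.of R)).fromSpecResidueField t = σ ≫ π := hν
    have ht : t = π s := by
      rw [← hσ, ← Scheme.Hom.comp_apply, ← hν]
      exact ((Spec (CommRingCat.of R)).fromSpecResidueField_apply t _).symm
    subst ht
    let jx : Spec (CommRingCat.of K) ⟶ Spec ((Spec (CommRingCat.of R)).residueField (π s)) :=
      SeesawGlobal.jHom (𝟙 (Spec (CommRingCat.of R))) x
    haveI : IsIso jx := SeesawGlobal.isIso_jHom _ _
    obtain ⟨φ, hφ⟩ := Spec.map_surjective (Spec.map ν ≫ inv jx)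
    refine ⟨φ.hom, ?_⟩
    have e1 : ψx = jx ≫ (Spec (CommRingCat.of R)).fromSpecResidueField x :=
      ((SeesawGlobal.jHom_fromSpec (𝟙 (Spec (CommRingCat.of R))) x).trans (Category.comp_id _)).symm
    rw [show CommRingCat.ofHom φ.hom = φ from rfl, hφ, e1]
    simp only [Category.assoc, IsIso.inv_hom_id_assoc]
    exact hν
  -- the fibre over a field point
  have fibre : ∀ (Ω : Type u) [Field Ω] (σ : Spec (CommRingCat.of Ω) ⟶ Spec B) (φ : K →+* Ω),
      Spec.map (CommRingCat.ofHom φ) ≫ ψx = σ ≫ π →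
      ∃ g : pullback f σ ⟶ pullback pW ψx, g ≫ g' = pullback.fst f σ ≫ q ∧
        IsPullback g (pullback.snd f σ) (pullback.snd pW ψx) (Spec.map (CommRingCat.ofHom φ)) := by
    intro Ω _ σ φ hφ
    have sq := (IsPullback.of_hasPullback f σ).paste_horiz h
    refine ⟨pullback.lift (pullback.fst f σ ≫ q) (pullback.snd f σ ≫ Spec.map (CommRingCat.ofHom φ))
      (by rw [Category.assoc (pullback.snd f σ), hφ]; exact sq.w),
      pullback.lift_fst _ _ _, ?_⟩
    refine IsPullback.of_right ?_ (pullback.lift_snd _ _ _) (IsPullback.of_hasPullback pW ψx)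
    rw [pullback.lift_fst, hφ]
    exact sq
  constructor
  · intro hn
    by_contra hcon
    rw [Set.mem_union, not_or] at hcon
    obtain ⟨h₁, h₂⟩ := hcon
    have h₁' : ¬ ∀ y, IsRel (Triv.comap c' g') y → y = 0 := h₁
    have h₂' : ¬ ∀ y, IsRel (Triv.comap (invC c') g') y → y = 0 := h₂
    simp only [not_forall] at h₁' h₂'
    obtain ⟨y, hy, hy0⟩ := h₁'
    obtain ⟨y', hy', hy0'⟩ := h₂'
    let L := (Spec B).residueField s
    let ψ : Spec (CommRingCat.of L) ⟶ Spec B := (Spec B).fromSpecResidueField s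
    obtain ⟨φ, hφ⟩ := lift L ψ ((Spec B).fromSpecResidueField_apply s _)
    obtain ⟨g, hg, hgsq⟩ := fibre L ψ φ hφ
    haveI : Flat (Spec.map (CommRingCat.ofHom φ)) := flat_of_field (Field.toIsField K) _
    haveI : Surjective (Spec.map (CommRingCat.ofHom φ)) :=
      ⟨fun z => ⟨closedPoint L, Subsingleton.elim (α := Spec (CommRingCat.of K)) _ _⟩⟩
    haveI : Flat g := MorphismProperty.of_isPullback hgsq.flip ‹Flat (Spec.map _)›
    haveI : Surjective g := MorphismProperty.of_isPullback hgsq.flip ‹Surjective (Spec.map _)›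
    obtain ⟨hH, hint⟩ := SeesawCons.h0_of_geometricallyIntegral f
    haveI : IsIntegral (pullback f ψ) := hint s
    have hbij : Function.Bijective (pullback.snd f ψ).appTop.hom :=
      SeesawGlobal.bijective_appTop_of_surjective _ (hH s)
    have hinj := injective_app g
    let z : ∀ a, Γ(pullback f ψ, g ⁻¹ᵁ (g' ⁻¹ᵁ V a)) := fun a => (g.app _).hom (y a)
    let z' : ∀ a, Γ(pullback f ψ, g ⁻¹ᵁ (g' ⁻¹ᵁ V a)) := fun a => (g.app _).hom (y' a)
    have hz0 : z ≠ 0 := fun e => hy0 (funext fun a =>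
      hinj _ ((congrFun e a).trans (map_zero (g.app _).hom).symm))
    have hz0' : z' ≠ 0 := fun e => hy0' (funext fun a =>
      hinj _ ((congrFun e a).trans (map_zero (g.app _).hom).symm))
    have hz : IsRel (Triv.comap (Triv.comap c' g') g) z := hy.comap g
    have hz' : IsRel (invC (Triv.comap (Triv.comap c' g') g)) z' := fun a b W ha hb => by
      have := hy'.comap g a b W ha hb
      have e : (Triv.comap (Triv.comap (invC c') g') g).u a b =
          (invC (Triv.comap (Triv.comap c' g') g)).u a b := by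
        rw [← invC_comap (Triv.comap c' g') g a b]
        exact congrArg (g.app _).hom (invC_comap c' g' a b)
      rwa [e] at this
    have hUc'' : iSup (fun a => g ⁻¹ᵁ (g' ⁻¹ᵁ V a)) = ⊤ :=
      (g.preimage_iSup _).symm.trans ((congrArg (g ⁻¹ᵁ ·)
        ((g'.preimage_iSup _).symm.trans ((congrArg (g' ⁻¹ᵁ ·) hVc).trans g'.preimage_top))).trans
          g.preimage_top)
    have hu := Seesaw.isUnit_of_pair (pullback.snd f ψ) hbij hUc'' hz hz' hz0 hz0'
    have hT : TrivAlong c' (g ≫ g') := ⟨z, hu, fun a b => by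
      refine (hz a b ((g ≫ g') ⁻¹ᵁ (V a ⊓ V b)) (pre_mono (g ≫ g') inf_le_left)
        (pre_mono (g ≫ g') inf_le_right)).trans (congrArg (· * _) ?_)
      exact Groth.Agent.Lib.TensorMod.Dual.rf_self _ _⟩
    exact hn ⟨L, inferInstance, ψ, (Spec B).fromSpecResidueField_apply s _, (hq _).1 (hT.of_eq hg)⟩
  · rintro hh ⟨Ω, _, σ, hσ, hT⟩
    obtain ⟨φ, hφ⟩ := lift Ω σ hσ
    obtain ⟨g, hg, hgsq⟩ := fibre Ω σ φ hφ
    letI : Algebra K Ω := φ.toAlgebra
    have ht : TrivAlong c' (g ≫ g') := ((hq _).2 hT).of_eq hg.symm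
    obtain ⟨z₀⟩ : Nonempty (pullback f σ :) := by
      obtain ⟨p, hp⟩ := f.surjective (σ (closedPoint Ω))
      obtain ⟨p', -⟩ := Scheme.Pullback.exists_preimage_pullback p (closedPoint Ω) (f := f) (g := σ) hp
      exact ⟨p'⟩
    obtain ⟨a, hza⟩ := Opens.mem_iSup.1 (show (g ≫ g') z₀ ∈ iSup V from hVc ▸ trivial)
    haveI : Nontrivial Γ(pullback f σ, (g ≫ g') ⁻¹ᵁ V a) :=
      @Scheme.component_nontrivial (pullback f σ) _ ⟨⟨z₀, hza⟩⟩
    rcases hh with hh | hh
    · obtain ⟨v, hv, he⟩ := ht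
      exact (hv a).ne_zero (congrFun (eq_zero_of_isRel_baseChange (κ := K) (L := Ω) hV' hV2
        (Triv.comap c' g') hgsq hh (Special.isRel_of_triv he)) a)
    · obtain ⟨v, hv, he⟩ := Special.trivAlong_invC ht
      exact (hv a).ne_zero (congrFun (eq_zero_of_isRel_baseChange (κ := K) (L := Ω) hV' hV2
        (Triv.comap (invC c') g') hgsq hh (Special.isRel_of_triv he)) a)

end Stage

variable {X S : Scheme.{u}} (f : X ⟶ S) [IsProper f] [Flat f] [LocallyOfFinitePresentation f]
  [GeometricallyIntegral f]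

/-- The points with trivial fibre form a closed set. -/
theorem isClosed_trivPt {ι : Type u} {U : ι → X.Opens} (hUc : iSup U = ⊤) (c : Cocycle U) :
    IsClosed {t : S | TrivPt f c t} := by
  rw [← isOpen_compl_iff, isOpen_iff_forall_mem_open]
  intro s hs
  obtain ⟨_, ⟨V₀, hV₀, rfl⟩, hsV₀, -⟩ := S.isBasis_affineOpens.exists_subset_of_mem_open
    (Set.mem_univ s) isOpen_univ
  let B : CommRingCat.{u} := CommRingCat.of Γ(S, V₀)
  let φ : Spec B ⟶ S := hV₀.fromSpec
  haveI : IsOpenImmersion φ := hV₀.isOpenImmersion_fromSpec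
  obtain ⟨ι', _, σ', U', hU', hUc', hσ'⟩ := SeesawGlobal.exists_finite_cover f φ hUc
  let f₀ : pullback f φ ⟶ Spec B := pullback.snd f φ
  let c₀ := reindex (Triv.comap c (pullback.fst f φ)) σ' hσ'
  -- descent
  let D := H2.Rigid.SubDiagram.diagram B
  let cn := H2.Rigid.SubDiagram.cone B
  let hcn := H2.Rigid.SubDiagram.isLimitCone B
  haveI : ∀ i, IsAffine (D.obj i) := fun i => H2.Rigid.SubDiagram.isAffine_obj B i
  haveI : ∀ {i j} (g : i ⟶ j), IsAffineHom (D.map g) := fun g => isAffineHom_of_isAffine _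
  have hD : ∀ (i j) (g : i ⟶ j), IsAffineHom (D.map g) := fun _ _ g => inferInstance
  let f₁ : pullback f φ ⟶ cn.pt := f₀
  haveI : IsProper f₁ := inferInstanceAs (IsProper (pullback.snd f φ))
  haveI : Flat f₁ := inferInstanceAs (Flat (pullback.snd f φ))
  haveI : LocallyOfFinitePresentation f₁ := inferInstanceAs (LocallyOfFinitePresentation (pullback.snd f φ))
  haveI : IsAffine cn.pt := inferInstanceAs (IsAffine (Spec B))
  haveI : CompactSpace (pullback f φ :) := QuasiCompact.compactSpace_of_compactSpace f₁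
  haveI : QuasiSeparatedSpace (pullback f φ :) := quasiSeparatedSpace_of_quasiSeparated f₁
  obtain ⟨i, Xi, fi, qi, hXc, hXq, hfi, hi⟩ := FPDescend.exists_descent hcn f₁
  obtain ⟨k₁, φ₁, h₁⟩ := Groth.Agent.H2.FlatDescend.flatFp_descends D cn hcn hD i inferInstance inferInstance fi
    hXc hXq hfi f₁ qi hi ⟨inferInstance, inferInstance⟩
  obtain ⟨k₂, φ₂, h₂⟩ := Valuative.isProper_descends D cn hcn hD i inferInstance inferInstance fi
    hXc hXq inferInstance f₁ qi hi inferInstance
  obtain ⟨k, α₁, α₂, -⟩ := IsCofilteredOrEmpty.cone_objs k₁ k₂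
  let φk : k ⟶ i := α₁ ≫ φ₁
  let gk := pullback.snd fi (D.map φk)
  haveI : Flat gk :=
    (Descend.prop_of_factor (P := Groth.Agent.H2.FlatDescend.flatFp) h₁ (D.map α₁)
      (D.map_comp _ _).symm (IsPullback.of_hasPullback _ _)).1
  haveI : IsProper gk :=
    Descend.prop_of_factor (P := @IsProper) h₂ (D.map α₂) (by
      rw [← D.map_comp, Subsingleton.elim (α₂ ≫ φ₂) φk]) (IsPullback.of_hasPullback _ _)
  have hk := FPDescend.move hi φk
  haveI : ∀ i' j' : Over k, Subsingleton (i' ⟶ j') := fun i' j' =>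
    ⟨fun a b => Over.OverMorphism.ext (Subsingleton.elim _ _)⟩
  haveI : CompactSpace (pullback fi (D.map φk) :) := QuasiCompact.compactSpace_of_compactSpace gk
  haveI := fun j' => compactSpace_bcDiagram D gk j'
  haveI : ∀ j', ((bcDiagram D gk).obj j').IsSeparated := fun j' =>
    ⟨by
      show IsSeparated (terminal.from (pullback gk (D.map j'.hom)))
      rw [← terminal.comp_from (pullback.snd gk (D.map j'.hom))]; infer_instance⟩
  obtain ⟨o, V, hV, hVc, c', hc'⟩ := exists_cocycle (bcDiagram D gk) (bcCone hk.w)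
    (isLimitBcCone hcn hk) (U := U') hU' hUc' c₀
  let R : CommRingCat.{u} := (H2.Rigid.SubDiagram.ringDiagram B).obj o.left.unop
  haveI : IsNoetherianRing R := by
    haveI : Algebra.FiniteType ℤ (Algebra.adjoin ℤ ((o.left.unop : Finset B) : Set B)) :=
      (Subalgebra.fg_iff_finiteType _).1 (Subalgebra.fg_def.2 ⟨_, o.left.unop.finite_toSet, rfl⟩)
    have hN : IsNoetherianRing (Algebra.adjoin ℤ ((o.left.unop : Finset B) : Set B)) :=
      Algebra.FiniteType.isNoetherianRing ℤ _
    exact hN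
  letI : ((bcDiagram D gk).obj o).Over (Spec (CommRingCat.of R)) := ⟨pullback.snd gk (D.map o.hom)⟩
  haveI : IsProper (((bcDiagram D gk).obj o) ↘ Spec (CommRingCat.of R)) :=
    inferInstanceAs (IsProper (pullback.snd gk (D.map o.hom)))
  haveI : Flat (((bcDiagram D gk).obj o) ↘ Spec (CommRingCat.of R)) :=
    inferInstanceAs (Flat (pullback.snd gk (D.map o.hom)))
  haveI : GeometricallyIntegral f₁ := inferInstanceAs (GeometricallyIntegral (pullback.snd f φ))
  have hcl := isClosed_trivPt_stage (R := R) f₀ c₀ hV hVc c' (cn.π.app o.left) ((bcCone hk.w).π.app o)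
    (isPullback_bcCone_π hk o) hc'
  have himg : ∀ t, TrivPt f₀ c₀ t ↔ TrivPt f c (φ t) := fun t => by
    constructor
    · rintro ⟨K, _, σ, hσ, hT⟩
      refine ⟨K, inferInstance, σ ≫ φ, congrArg φ hσ, ?_⟩
      have h1 : TrivAlong c (pullback.fst f₀ σ ≫ pullback.fst f φ) :=
        trivAlong_of_reindex _ σ' hσ' hUc' _ hT
      exact (h1.comp (pullbackLeftPullbackSndIso f φ σ).inv).of_eq
        (pullbackLeftPullbackSndIso_inv_fst f φ σ)
    · rintro ⟨K, _, σ, hσ, hT⟩
      have hr : Set.range σ ⊆ Set.range φ := by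
        rintro _ ⟨z, rfl⟩
        rw [Subsingleton.elim (α := Spec (CommRingCat.of K)) z (closedPoint K), hσ]
        exact ⟨t, rfl⟩
      refine ⟨K, inferInstance, IsOpenImmersion.lift φ σ hr,
        φ.injective (by rw [← Scheme.Hom.comp_apply, IsOpenImmersion.lift_fac, hσ]), ?_⟩
      refine trivAlong_reindex (Triv.comap c (pullback.fst f φ)) σ' hσ' _ ?_
      show TrivAlong c (pullback.fst f₀ (IsOpenImmersion.lift φ σ hr) ≫ pullback.fst f φ)
      let l : pullback f₀ (IsOpenImmersion.lift φ σ hr) ⟶ pullback f σ :=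
        pullback.lift (pullback.fst f₀ _ ≫ pullback.fst f φ) (pullback.snd f₀ _) (by
          refine Eq.trans ?_ (congrArg (pullback.snd f₀ _ ≫ ·) (IsOpenImmersion.lift_fac φ σ hr))
          refine (Category.assoc _ _ _).trans ((congrArg (_ ≫ ·) pullback.condition).trans ?_)
          refine (Category.assoc _ _ _).symm.trans ((congrArg (· ≫ φ) ?_).trans (Category.assoc _ _ _))
          exact pullback.condition)
      exact (hT.comp l).of_eq (pullback.lift_fst _ _ _)
  obtain ⟨x, hx⟩ : s ∈ Set.range φ := by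
    show s ∈ Set.range hV₀.fromSpec
    rw [hV₀.range_fromSpec]
    exact hsV₀
  subst hx
  refine ⟨φ '' {t | TrivPt f₀ c₀ t}ᶜ, ?_, φ.isOpenEmbedding.isOpenMap _ hcl.isOpen_compl, ⟨x, fun h => hs ((himg x).1 h), rfl⟩⟩
  rintro _ ⟨t, ht, rfl⟩ hT
  exact ht ((himg t).2 hT)

end

end Groth.Agent.Lib.Cube.NN
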