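import Groth.Agent.Lib.Cube.Refine
import Mathlib.AlgebraicGeometry.AffineTransitionLimit

/-!
# Cocycles on a limit of schemes descend to a stage
-/

set_option autoImplicit false
set_option linter.style.haveILetI false

universe u

open CategoryTheory CategoryTheory.Limits AlgebraicGeometry TopologicalSpace Opposite

namespace Groth.Agent.Lib.Cube.NN

open Groth.Agent.Lib.TensorMod.Dual (rf rf_rf rf_self)
open Groth.Agent.H97.GlueLine (Cocycle)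
open Groth.Agent.Lib.Cube.Triv
open Groth.Agent.Lib.Cube.Rigid (rf_one isUnit_rf)

noncomputable section

variable {P W : Scheme.{u}}

theorem appLE_rf (f : P ⟶ W) {A B : W.Opens} (h : A ≤ B) {V : P.Opens} (e : V ≤ f ⁻¹ᵁ A)
    (a : Γ(W, B)) :
    (f.appLE A V e).hom (rf h a) = (f.appLE B V (e.trans (pre_mono f h))).hom a :=
  ConcreteCategory.congr_hom (f.map_appLE e (homOfLE h).op) a

theorem rf_appLE (f : P ⟶ W) {B : W.Opens} {V V' : P.Opens} (h : V' ≤ V) (e : V ≤ f ⁻¹ᵁ B)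
    (a : Γ(W, B)) :
    rf h ((f.appLE B V e).hom a) = (f.appLE B V' (h.trans e)).hom a :=
  ConcreteCategory.congr_hom (f.appLE_map e (homOfLE h).op) a

theorem app_eq (f : P ⟶ W) {B : W.Opens} (a : Γ(W, B)) :
    (f.app B).hom a = (f.appLE B (f ⁻¹ᵁ B) le_rfl).hom a := by
  rw [← f.app_eq_appLE]

/-- A cocycle and its inverse image, with the opens given up to equality. -/
theorem trivAlong_of_pull {ι : Type u} {U : ι → W.Opens} {U' : ι → P.Opens} (π : P ⟶ W)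
    (c : Cocycle U) (c' : Cocycle U') (hU : ∀ a, π ⁻¹ᵁ U a = U' a)
    (hu : ∀ a b (e : U' a ⊓ U' b ≤ π ⁻¹ᵁ (U a ⊓ U b)), (π.appLE _ _ e).hom (c.u a b) = c'.u a b)
    {Q : Scheme.{u}} (f : Q ⟶ P) : TrivAlong c (f ≫ π) ↔ TrivAlong c' f := by
  obtain rfl : (fun a => π ⁻¹ᵁ U a) = U' := funext hU
  have e : ∀ a b, (Triv.comap c π).u a b = c'.u a b := fun a b =>
    (app_eq π (c.u a b)).trans (hu a b le_rfl)
  constructor
  · rintro ⟨v, hv, he⟩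
    exact ⟨v, hv, fun a b => (he a b).trans (by rw [← e a b]; rfl)⟩
  · rintro ⟨v, hv, he⟩
    exact ⟨v, hv, fun a b => (he a b).trans (by rw [← e a b]; rfl)⟩

theorem appLE_appLE {Q : Scheme.{u}} (f : Q ⟶ P) (g : P ⟶ W) {A : W.Opens} {B : P.Opens}
    {C : Q.Opens} (e₁ : B ≤ g ⁻¹ᵁ A) (e₂ : C ≤ f ⁻¹ᵁ B) {h : Q ⟶ W} (hh : f ≫ g = h) (a : Γ(W, A)) :
    (f.appLE B C e₂).hom ((g.appLE A B e₁).hom a) =
      (h.appLE A C (e₂.trans ((pre_mono f e₁).trans (by subst hh; exact le_rfl)))).hom a := by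
  subst hh
  exact ConcreteCategory.congr_hom (Scheme.Hom.appLE_comp_appLE f g A B C e₁ e₂) a

theorem pre_map {Q : Scheme.{u}} (f : Q ⟶ P) (g : P ⟶ W) {h : Q ⟶ W} (hh : f ≫ g = h) (A : W.Opens) :
    f ⁻¹ᵁ (g ⁻¹ᵁ A) = h ⁻¹ᵁ A := by
  subst hh; rfl

variable {J : Type u} [SmallCategory J] [IsCofiltered J] (D : J ⥤ Scheme.{u}) (c : Cone D)
  (hc : IsLimit c) [∀ {i j : J} (f : i ⟶ j), IsAffineHom (D.map f)]

include hc in
/-- A section over an open of the limit comes from a stage. -/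
theorem exists_section {i : J} {U : (D.obj i).Opens} (hU : IsCompact (U : Set (D.obj i)))
    [∀ j, QuasiSeparatedSpace (D.obj j)] {V : c.pt.Opens} (hV : c.π.app i ⁻¹ᵁ U = V)
    (s : Γ(c.pt, V)) :
    ∃ (j : J) (f : j ⟶ i) (t : Γ(D.obj j, D.map f ⁻¹ᵁ U)),
      ∀ (e : V ≤ c.π.app j ⁻¹ᵁ (D.map f ⁻¹ᵁ U)), ((c.π.app j).appLE _ V e).hom t = s := by
  subst hV
  have hcpt : ∀ j : Over i, CompactSpace ((opensDiagram D i U).obj j) := fun j =>
    isCompact_iff_compactSpace.1 ((D.map j.hom).isCompact_preimage hU)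
  have hqs : ∀ j : Over i, QuasiSeparatedSpace ((opensDiagram D i U).obj j) := fun j =>
    QuasiSeparatedSpace.of_isOpenEmbedding (D.map j.hom ⁻¹ᵁ U).ι.isOpenEmbedding
  obtain ⟨j, t, ht⟩ := exists_appTop_π_eq_of_isLimit (opensDiagram D i U) (opensCone D c i U)
    (isLimitOpensCone D c hc i U) ((c.π.app i ⁻¹ᵁ U).topIso.inv.hom s)
  let T : Γ((D.map j.hom ⁻¹ᵁ U).toScheme, ⊤) := t
  refine ⟨j.left, j.hom, (D.map j.hom ⁻¹ᵁ U).topIso.hom.hom T, fun e => ?_⟩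
  have key : (((c.π.app j.left).resLE _ _ e).appTop) ≫ (c.π.app i ⁻¹ᵁ U).topIso.hom =
      (D.map j.hom ⁻¹ᵁ U).topIso.hom ≫ (c.π.app j.left).appLE _ _ e := by
    simp only [Scheme.Opens.topIso_hom, Scheme.Hom.map_appLE, eqToHom_op]
    rw [Scheme.Hom.appTop, ← Scheme.Hom.appLE_eq_app, Scheme.Hom.resLE_appLE]
    erw [Scheme.Hom.appLE_map, Scheme.Hom.map_appLE]
  have h := congrArg (c.π.app i ⁻¹ᵁ U).topIso.hom.hom ht
  rw [← CommRingCat.comp_apply, Iso.inv_hom_id] at h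
  refine Eq.trans ?_ h.symm
  exact (ConcreteCategory.congr_hom key T).symm

include hc in
/-- An equality of sections over the limit holds from some stage on. -/
theorem exists_eq {i : J} {U : (D.obj i).Opens} (hU : IsCompact (U : Set (D.obj i)))
    {V : c.pt.Opens} (hV : c.π.app i ⁻¹ᵁ U = V) {e : V ≤ c.π.app i ⁻¹ᵁ U} {s t : Γ(D.obj i, U)}
    (h : ((c.π.app i).appLE U V e).hom s = ((c.π.app i).appLE U V e).hom t) :
    ∃ (j : J) (f : j ⟶ i), ∀ (k : J) (g : k ⟶ j) (V' : (D.obj k).Opens)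
      (e' : V' ≤ D.map (g ≫ f) ⁻¹ᵁ U),
      ((D.map (g ≫ f)).appLE U V' e').hom s = ((D.map (g ≫ f)).appLE U V' e').hom t := by
  subst hV
  obtain ⟨j, f, hf⟩ := exists_app_map_eq_map_of_isLimit D c hc hU s t
    (by rw [app_eq, app_eq]; exact h)
  refine ⟨j, f, fun k g V' e' => ?_⟩
  have e1 : V' ≤ D.map g ⁻¹ᵁ (D.map f ⁻¹ᵁ U) := by
    rw [← Scheme.Hom.comp_preimage, ← D.map_comp]; exact e'
  have key : ∀ r : Γ(D.obj i, U), ((D.map (g ≫ f)).appLE U V' e').hom r =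
      ((D.map g).appLE _ V' e1).hom ((D.map f).app U r) := fun r => by
    rw [← CommRingCat.comp_apply]
    erw [← Scheme.Hom.comp_appLE]
    congr 3 <;> simp
  rw [key, key]
  exact congrArg _ hf

/-- A stage below finitely many. -/
theorem exists_below {κ : Type u} [Finite κ] (i : J) (f : κ → J) :
    ∃ (k : J) (_ : k ⟶ i), ∀ x, Nonempty (k ⟶ f x) := by
  classical
  haveI := Fintype.ofFinite κ
  obtain ⟨k, hk⟩ := IsCofiltered.inf_objs_exists (insert i (Finset.univ.image f))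
  exact ⟨k, (hk (Finset.mem_insert_self _ _)).some,
    fun x => hk (Finset.mem_insert_of_mem (Finset.mem_image_of_mem f (Finset.mem_univ x)))⟩

variable [∀ i j : J, Subsingleton (i ⟶ j)] [∀ j, CompactSpace (D.obj j)]
  [∀ j, (D.obj j).IsSeparated]

include hc in
/-- A cocycle on the limit comes from a stage. -/
theorem exists_cocycle {ι : Type u} [Finite ι] {U : ι → c.pt.Opens} (hU : ∀ a, IsAffineOpen (U a))
    (hUc : iSup U = ⊤) (c₀ : Cocycle U) :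
    ∃ (m : J) (V : ι → (D.obj m).Opens) (_ : ∀ a, IsAffineOpen (V a)) (_ : iSup V = ⊤)
      (c' : Cocycle V), ∀ {Q : Scheme.{u}} (f : Q ⟶ c.pt),
        TrivAlong c' (f ≫ c.π.app m) ↔ TrivAlong c₀ f := by
  haveI : ∀ j, QuasiSeparatedSpace (D.obj j) := fun j => inferInstance
  obtain ⟨i, V, hVc, hV⟩ := Scheme.exists_isOpenCover_and_isAffine_of_finite D c hc U hUc hU
  have hV2 : ∀ a b, IsCompact ((V a ⊓ V b : (D.obj i).Opens) : Set (D.obj i)) := fun a b =>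
    ((hV a).1.inf (hV b).1).isCompact
  have hpre : ∀ a b, c.π.app i ⁻¹ᵁ (V a ⊓ V b) = U a ⊓ U b := fun a b => by
    rw [(hV a).2, (hV b).2]; rfl
  choose j f t ht using fun x : ι × ι =>
    exists_section D c hc (hV2 x.1 x.2) (hpre x.1 x.2) (c₀.u x.1 x.2)
  obtain ⟨k, φ, hk⟩ := exists_below i j
  let g := fun x => (hk x).some
  let Vk : ι → (D.obj k).Opens := fun a => D.map φ ⁻¹ᵁ V a
  have hVk : ∀ a b, Vk a ⊓ Vk b ≤ D.map (g (a, b)) ⁻¹ᵁ (D.map (f (a, b)) ⁻¹ᵁ (V a ⊓ V b)) := fun a b => by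
    rw [pre_map _ _ ((D.map_comp _ _).symm.trans (congrArg D.map (Subsingleton.elim _ φ)))]
    exact le_rfl
  let uk : ∀ a b, Γ(D.obj k, Vk a ⊓ Vk b) := fun a b =>
    ((D.map (g (a, b))).appLE _ _ (hVk a b)).hom (t (a, b))
  have hUk : ∀ a, c.π.app k ⁻¹ᵁ Vk a = U a := fun a => by
    rw [pre_map _ _ (c.w φ), (hV a).2]
  have hpull : ∀ a b (B : c.pt.Opens) (hB : B ≤ U a ⊓ U b) (e : B ≤ c.π.app k ⁻¹ᵁ (Vk a ⊓ Vk b)),
      ((c.π.app k).appLE _ B e).hom (uk a b) = rf hB (c₀.u a b) := fun a b B hB e => by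
    have e' : U a ⊓ U b ≤ c.π.app (j (a, b)) ⁻¹ᵁ (D.map (f (a, b)) ⁻¹ᵁ (V a ⊓ V b)) := by
      rw [pre_map _ _ (c.w (f (a, b))), hpre]
    rw [← ht (a, b) e', rf_appLE]
    exact appLE_appLE _ _ _ _ (c.w (g (a, b))) _
  have hinf : ∀ a b, IsAffineOpen (Vk a ⊓ Vk b) := fun a b =>
    ((hV a).1.preimage (D.map φ)).inf ((hV b).1.preimage (D.map φ))
  have hinf3 : ∀ a b d, IsCompact ((Vk a ⊓ Vk b ⊓ Vk d : (D.obj k).Opens) : Set (D.obj k)) :=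
    fun a b d => ((hinf a b).inf ((hV d).1.preimage (D.map φ))).isCompact
  have hself : ∀ a, ∃ (j' : J) (_ : j' ⟶ k), ∀ (l : J) (γ : l ⟶ j') (δ : l ⟶ k) (V' : (D.obj l).Opens)
      (e' : V' ≤ D.map δ ⁻¹ᵁ (Vk a ⊓ Vk a)),
      ((D.map δ).appLE _ V' e').hom (uk a a) = 1 := fun a => by
    obtain ⟨j', f', hf'⟩ := exists_eq D c hc (hinf a a).isCompact rfl (e := le_rfl) (s := uk a a) (t := 1)
      (by
        rw [map_one, hpull a a _ (by rw [← hUk a]; exact le_rfl) le_rfl]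
        exact c₀.self a _ _)
    refine ⟨j', f', fun l γ δ V' e' => ?_⟩
    obtain rfl : δ = γ ≫ f' := Subsingleton.elim _ _
    rw [hf' l γ V' e', map_one]
  choose js fs hjs using hself
  have htrans : ∀ x : ι × ι × ι, ∃ (j' : J) (_ : j' ⟶ k), ∀ (l : J) (γ : l ⟶ j') (δ : l ⟶ k)
      (V' : (D.obj l).Opens) (e₁ : V' ≤ D.map δ ⁻¹ᵁ (Vk x.1 ⊓ Vk x.2.1))
      (e₂ : V' ≤ D.map δ ⁻¹ᵁ (Vk x.2.1 ⊓ Vk x.2.2)) (e₃ : V' ≤ D.map δ ⁻¹ᵁ (Vk x.1 ⊓ Vk x.2.2)),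
      ((D.map δ).appLE _ V' e₁).hom (uk x.1 x.2.1) * ((D.map δ).appLE _ V' e₂).hom (uk x.2.1 x.2.2) =
        ((D.map δ).appLE _ V' e₃).hom (uk x.1 x.2.2) := by
    rintro ⟨a, b, d⟩
    have h1 : Vk a ⊓ Vk b ⊓ Vk d ≤ Vk a ⊓ Vk b := inf_le_left
    have h2 : Vk a ⊓ Vk b ⊓ Vk d ≤ Vk b ⊓ Vk d := inf_le_inf_right _ inf_le_right
    have h3 : Vk a ⊓ Vk b ⊓ Vk d ≤ Vk a ⊓ Vk d := inf_le_inf_right _ inf_le_left
    obtain ⟨j', f', hf'⟩ := exists_eq D c hc (hinf3 a b d) rfl (e := le_rfl)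
      (s := rf h1 (uk a b) * rf h2 (uk b d)) (t := rf h3 (uk a d))
      (by
        have hle : ∀ a' b' (h : Vk a ⊓ Vk b ⊓ Vk d ≤ Vk a' ⊓ Vk b'),
            c.π.app k ⁻¹ᵁ (Vk a ⊓ Vk b ⊓ Vk d) ≤ U a' ⊓ U b' := fun a' b' h => by
          rw [← hUk a', ← hUk b']; exact pre_mono _ h
        rw [map_mul, appLE_rf, appLE_rf, appLE_rf, hpull a b _ (hle a b h1), hpull b d _ (hle b d h2),
          hpull a d _ (hle a d h3)]
        exact c₀.trans a b d _ ((hle a b h1).trans inf_le_left) ((hle a b h1).trans inf_le_right)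
          ((hle b d h2).trans inf_le_right))
    refine ⟨j', f', fun l γ δ V' e₁ e₂ e₃ => ?_⟩
    obtain rfl : δ = γ ≫ f' := Subsingleton.elim _ _
    have e : V' ≤ D.map (γ ≫ f') ⁻¹ᵁ (Vk a ⊓ Vk b ⊓ Vk d) := le_inf e₁ (e₂.trans (pre_mono _ inf_le_right))
    have := hf' l γ V' e
    rw [map_mul, appLE_rf, appLE_rf, appLE_rf] at this
    exact this
  choose jt ft hjt using htrans
  obtain ⟨m, ψ, hm⟩ := exists_below k (Sum.elim js jt)
  let u' : ∀ a b, Γ(D.obj m, D.map ψ ⁻¹ᵁ Vk a ⊓ D.map ψ ⁻¹ᵁ Vk b) := fun a b =>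
    ((D.map ψ).appLE _ _ le_rfl).hom (uk a b)
  let c' : Cocycle fun a => D.map ψ ⁻¹ᵁ Vk a :=
    { u := u'
      self := fun a V' h => by
        refine (rf_appLE _ _ _ _).trans ?_
        exact hjs a m (hm (Sum.inl a)).some ψ V' _
      trans := fun a b d V' ha hb hd => by
        simp only [u']
        erw [rf_appLE, rf_appLE, rf_appLE]
        exact hjt (a, b, d) m (hm (Sum.inr (a, b, d))).some ψ V' _ _ _ }
  refine ⟨m, fun a => D.map ψ ⁻¹ᵁ Vk a, fun a => ((hV a).1.preimage _).preimage _, ?_, c', fun g' => ?_⟩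
  · simp only [Vk]
    rw [← Scheme.Hom.preimage_iSup, ← Scheme.Hom.preimage_iSup, hVc, Scheme.Hom.preimage_top,
      Scheme.Hom.preimage_top]
  · refine trivAlong_of_pull _ c' c₀ (fun a => by rw [pre_map _ _ (c.w ψ), hUk]) (fun a b e => ?_) g'
    show ((c.π.app m).appLE _ _ e).hom (((D.map ψ).appLE _ _ le_rfl).hom (uk a b)) = _
    exact (appLE_appLE _ _ _ _ (c.w ψ) _).trans ((hpull a b _ le_rfl _).trans (rf_self _ _))

include hc in
/-- Triviality over the limit holds at a stage. -/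
theorem exists_trivAlong {i : J} {W₀ : Scheme.{u}} [W₀.IsSeparated] {ι : Type u} [Finite ι]
    {U₀ : ι → W₀.Opens} (hU₀ : ∀ a, IsAffineOpen (U₀ a)) (c₀ : Cocycle U₀) (f₀ : D.obj i ⟶ W₀)
    [QuasiCompact f₀] (h : TrivAlong c₀ (c.π.app i ≫ f₀)) :
    ∃ (m : J) (g : m ⟶ i), TrivAlong c₀ (D.map g ≫ f₀) := by
  haveI : ∀ j, QuasiSeparatedSpace (D.obj j) := fun j => inferInstance
  obtain ⟨v, hv, he⟩ := h
  choose w hw using fun a => (hv a).exists_right_inv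
  have hO : ∀ a, IsCompact ((f₀ ⁻¹ᵁ U₀ a : (D.obj i).Opens) : Set (D.obj i)) := fun a =>
    f₀.isCompact_preimage (hU₀ a).isCompact
  choose j f t ht using fun a => exists_section D c hc (hO a) rfl (v a)
  choose j₂ f₂ t₂ ht₂ using fun a => exists_section D c hc (hO a) rfl (w a)
  obtain ⟨k, φ, hk⟩ := exists_below i (Sum.elim j j₂)
  have hh : c.π.app k ≫ D.map φ ≫ f₀ = c.π.app i ≫ f₀ := by rw [← Category.assoc, c.w]
  let O : ι → (D.obj k).Opens := fun a => (D.map φ ≫ f₀) ⁻¹ᵁ U₀ a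
  have hle : ∀ a {j : J} (f : j ⟶ i) (g : k ⟶ j),
      O a ≤ D.map g ⁻¹ᵁ (D.map f ⁻¹ᵁ (f₀ ⁻¹ᵁ U₀ a)) := fun a j f g => by
    rw [pre_map _ _ ((D.map_comp _ _).symm.trans (congrArg D.map (Subsingleton.elim _ φ)))]
    exact le_rfl
  let vk : ∀ a, Γ(D.obj k, O a) := fun a =>
    ((D.map (hk (Sum.inl a)).some).appLE _ _ (hle a (f a) _)).hom (t a)
  let wk : ∀ a, Γ(D.obj k, O a) := fun a =>
    ((D.map (hk (Sum.inr a)).some).appLE _ _ (hle a (f₂ a) _)).hom (t₂ a)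
  have hπO : ∀ a, c.π.app k ⁻¹ᵁ O a = (c.π.app i ≫ f₀) ⁻¹ᵁ U₀ a := fun a => pre_map _ _ hh _
  have hle' : ∀ a {j : J} (f : j ⟶ i),
      (c.π.app i ≫ f₀) ⁻¹ᵁ U₀ a ≤ c.π.app j ⁻¹ᵁ (D.map f ⁻¹ᵁ (f₀ ⁻¹ᵁ U₀ a)) := fun a j f => by
    rw [pre_map _ _ (c.w f)]; exact le_rfl
  have hpv : ∀ a (B : c.pt.Opens) (hB : B ≤ (c.π.app i ≫ f₀) ⁻¹ᵁ U₀ a) (e : B ≤ c.π.app k ⁻¹ᵁ O a),
      ((c.π.app k).appLE _ B e).hom (vk a) = rf hB (v a) := fun a B hB e => by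
    exact (appLE_appLE _ _ _ _ (c.w _) _).trans
      ((rf_appLE _ hB (hle' a (f a)) _).symm.trans (congrArg (rf hB) (ht a (hle' a (f a)))))
  have hpw : ∀ a (B : c.pt.Opens) (hB : B ≤ (c.π.app i ≫ f₀) ⁻¹ᵁ U₀ a) (e : B ≤ c.π.app k ⁻¹ᵁ O a),
      ((c.π.app k).appLE _ B e).hom (wk a) = rf hB (w a) := fun a B hB e => by
    exact (appLE_appLE _ _ _ _ (c.w _) _).trans
      ((rf_appLE _ hB (hle' a (f₂ a)) _).symm.trans (congrArg (rf hB) (ht₂ a (hle' a (f₂ a)))))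
  have hunit : ∀ a, ∃ (j' : J) (_ : j' ⟶ k), ∀ (l : J) (γ : l ⟶ j') (δ : l ⟶ k) (V' : (D.obj l).Opens)
      (e' : V' ≤ D.map δ ⁻¹ᵁ O a),
      ((D.map δ).appLE _ V' e').hom (vk a) * ((D.map δ).appLE _ V' e').hom (wk a) = 1 := fun a => by
    obtain ⟨j', f', hf'⟩ := exists_eq D c hc ((D.map φ ≫ f₀).isCompact_preimage (hU₀ a).isCompact) rfl
      (e := le_rfl) (s := vk a * wk a) (t := 1) (by
        rw [map_one, map_mul, hpv a _ (hπO a).le, hpw a _ (hπO a).le, ← rf_mul, hw a, rf_one])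
    refine ⟨j', f', fun l γ δ V' e' => ?_⟩
    obtain rfl : δ = γ ≫ f' := Subsingleton.elim _ _
    rw [← map_mul, hf' l γ V' e', map_one]
  choose ju fu hju using hunit
  have hrel : ∀ x : ι × ι, ∃ (j' : J) (_ : j' ⟶ k), ∀ (l : J) (γ : l ⟶ j') (δ : l ⟶ k)
      (V' : (D.obj l).Opens) (e₁ : V' ≤ D.map δ ⁻¹ᵁ O x.1) (e₂ : V' ≤ D.map δ ⁻¹ᵁ O x.2)
      (e₃ : V' ≤ (D.map δ ≫ D.map φ ≫ f₀) ⁻¹ᵁ (U₀ x.1 ⊓ U₀ x.2)),
      ((D.map δ).appLE _ V' e₁).hom (vk x.1) =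
        ((D.map δ ≫ D.map φ ≫ f₀).appLE _ V' e₃).hom (c₀.u x.1 x.2) *
          ((D.map δ).appLE _ V' e₂).hom (vk x.2) := by
    rintro ⟨a, b⟩
    let O2 : (D.obj k).Opens := (D.map φ ≫ f₀) ⁻¹ᵁ (U₀ a ⊓ U₀ b)
    obtain ⟨j', f', hf'⟩ := exists_eq D c hc
      ((D.map φ ≫ f₀).isCompact_preimage ((hU₀ a).inf (hU₀ b)).isCompact) rfl
      (e := le_rfl) (U := O2) (s := rf (pre_mono _ inf_le_left) (vk a))
      (t := ((D.map φ ≫ f₀).appLE _ O2 le_rfl).hom (c₀.u a b) * rf (pre_mono _ inf_le_right) (vk b))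
      (by
        have hB : c.π.app k ⁻¹ᵁ O2 ≤ (c.π.app i ≫ f₀) ⁻¹ᵁ (U₀ a ⊓ U₀ b) := (pre_map _ _ hh _).le
        rw [map_mul, appLE_rf, appLE_rf, hpv a _ (hB.trans (pre_mono _ inf_le_left)),
          hpv b _ (hB.trans (pre_mono _ inf_le_right)), appLE_appLE _ _ _ _ hh]
        refine (TrivAlong.eq he a b (hB.trans (pre_mono _ inf_le_left))
          (hB.trans (pre_mono _ inf_le_right))).trans (congrArg (· * _) ?_)
        rw [app_eq]
        exact rf_appLE _ _ _ _)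
    refine ⟨j', f', fun l γ δ V' e₁ e₂ e₃ => ?_⟩
    obtain rfl : δ = γ ≫ f' := Subsingleton.elim _ _
    have := hf' l γ V' e₃
    rw [map_mul, appLE_rf, appLE_rf] at this
    exact this.trans (congrArg (· * _) (appLE_appLE _ _ _ _ rfl _))
  choose jr fr hjr using hrel
  obtain ⟨m, ψ, hm⟩ := exists_below k (Sum.elim ju jr)
  have hG : D.map (ψ ≫ φ) ≫ f₀ = D.map ψ ≫ D.map φ ≫ f₀ := by rw [D.map_comp, Category.assoc]
  refine ⟨m, ψ ≫ φ, TrivAlong.of_eq ⟨fun a => ((D.map ψ).appLE (O a) _ le_rfl).hom (vk a), fun a => ?_,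
    fun a b => ?_⟩ hG.symm⟩
  · exact IsUnit.of_mul_eq_one _ (hju a m (hm (Sum.inl a)).some ψ _ le_rfl)
  · beta_reduce
    erw [rf_appLE, rf_appLE, app_eq]
    exact hjr (a, b) m (hm (Sum.inr (a, b))).some ψ _ _ _ le_rfl

end

end Groth.Agent.Lib.Cube.NN
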