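import Groth.Agent.Lib.Cube.NN.CocycleDescend
import Groth.Agent.Lib.Cube.FamRank
import Groth.Agent.H2.Rigid.PushFlat

/-!
# The data of the theorem of the cube over an affine base come from a Noetherian base
-/

set_option autoImplicit false
set_option linter.style.haveILetI false

universe u

open CategoryTheory CategoryTheory.Limits AlgebraicGeometry TopologicalSpace Opposite IsLocalRing
open Groth.Agent.Lib.Lim Groth.Agent.Lib.Lim.Basic
open Groth.Agent.H2.Rigid (H0)

namespace Groth.Agent.Lib.Cube.NN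

open Groth.Agent.H97.GlueLine (Cocycle)
open Groth.Agent.Lib.Cube.Triv

noncomputable section

/-- Constant functions on the fibre over the image of a field point and on the base change to the
field are the same condition. -/
theorem surjective_fibre_iff {X T P : Scheme.{u}} (g : X ⟶ T) [QuasiCompact g] [QuasiSeparated g]
    {L : Type u} [Field L] {pt : Spec (CommRingCat.of L) ⟶ T} {p₁ : P ⟶ X}
    {p₂ : P ⟶ Spec (CommRingCat.of L)} (h : IsPullback p₁ p₂ g pt) {t : T}
    (ht : pt (closedPoint L) = t) :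
    Function.Surjective (g.fiberToSpecResidueField t).appTop.hom ↔
      Function.Surjective p₂.appTop.hom := by
  obtain ⟨⟨t', φ⟩, rfl⟩ := (Scheme.SpecToEquivOfField L T).symm.surjective pt
  obtain rfl : t' = t := by
    rw [← ht]
    exact (T.fromSpecResidueField_apply t' _).symm
  haveI : QuasiCompact (g.fiberToSpecResidueField t') :=
    inferInstanceAs (QuasiCompact (pullback.snd g (T.fromSpecResidueField t')))
  haveI : QuasiSeparated (g.fiberToSpecResidueField t') :=
    inferInstanceAs (QuasiSeparated (pullback.snd g (T.fromSpecResidueField t')))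
  change IsPullback p₁ p₂ g (Spec.map φ ≫ T.fromSpecResidueField t') at h
  have sq := IsPullback.of_hasPullback g (T.fromSpecResidueField t')
  have hw : p₁ ≫ g = (p₂ ≫ Spec.map φ) ≫ T.fromSpecResidueField t' := by
    rw [Category.assoc]; exact h.w
  have hl : IsPullback (sq.lift p₁ (p₂ ≫ Spec.map φ) hw) p₂ (g.fiberToSpecResidueField t')
      (Spec.map φ) :=
    IsPullback.of_right (by rw [sq.lift_fst]; exact h) (sq.lift_snd _ _ _) sq
  exact ⟨fun hs => @H2.Rigid.surjective_baseChange (T.residueField t') L _ _ φ.hom.toAlgebra _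
      (g.fiberToSpecResidueField t') _ _ _ _ _ hl hs,
    fun hs => @H2.Rigid.surjective_of_baseChange (T.residueField t') L _ _ φ.hom.toAlgebra _
      (g.fiberToSpecResidueField t') _ _ _ _ _ hl hs⟩

variable {I : Type u} [SmallCategory I] [IsCofiltered I] (D : I ⥤ Scheme.{u}) (c : Cone D)
  (hc : IsLimit c) [∀ i, IsAffine (D.obj i)] [∀ i, IsLocallyNoetherian (D.obj i)]

include hc in
/-- Constant functions on the fibres over the limit hold from a stage on. -/
theorem exists_h0_stage {X : Scheme.{u}} (f : X ⟶ c.pt) [QuasiCompact f] [QuasiSeparated f]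
    (hf : H0 f) {i : I} {Xi : Scheme.{u}} (gi : Xi ⟶ D.obj i) [IsProper gi] [Flat gi] (q : X ⟶ Xi)
    (H : IsPullback q f gi (c.π.app i)) (τ : D.obj i ⟶ Xi) (hτ : τ ≫ gi = 𝟙 _) :
    ∃ (j : I) (φ : j ⟶ i), ∀ (k : I) (γ : k ⟶ j), H0 (pullback.snd gi (D.map (γ ≫ φ))) := by
  haveI : ∀ {i j : I} (g : i ⟶ j), IsAffineHom (D.map g) := fun g => isAffineHom_of_isAffine _
  have hne : ∀ t, Nonempty (gi.fiber t) := fun t => by
    have : τ t ∈ Set.range (gi.fiberι t) := by
      rw [gi.range_fiberι t]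
      show gi (τ t) = t
      rw [← Scheme.Hom.comp_apply, hτ]
      rfl
    obtain ⟨z, -⟩ := this
    exact ⟨z⟩
  let U : (D.obj i).Opens :=
    ⟨{t | Function.Surjective (gi.fiberToSpecResidueField t).appTop.hom},
      FamRank.isOpen_surjective_fibre gi hne⟩
  have hU : c.π.app i ⁻¹ᵁ U = ⊤ := by
    refine top_le_iff.1 fun s _ => ?_
    have sq := (IsPullback.of_hasPullback f (c.pt.fromSpecResidueField s)).paste_horiz H
    refine (surjective_fibre_iff gi sq ?_).2 (hf s)
    exact congrArg (c.π.app i) (c.pt.fromSpecResidueField_apply s _)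
  obtain ⟨j, φ, hj⟩ := exists_map_eq_top D c hc U hU
  refine ⟨j, φ, fun k γ t => ?_⟩
  have hmem : D.map (γ ≫ φ) t ∈ U := by
    rw [D.map_comp, Scheme.Hom.comp_apply]
    show D.map γ t ∈ D.map φ ⁻¹ᵁ U
    rw [hj]
    trivial
  have sq := (IsPullback.of_hasPullback (pullback.snd gi (D.map (γ ≫ φ)))
    ((D.obj k).fromSpecResidueField t)).paste_horiz (IsPullback.of_hasPullback gi (D.map (γ ≫ φ)))
  exact (surjective_fibre_iff gi sq
    (congrArg (D.map (γ ≫ φ)) ((D.obj k).fromSpecResidueField_apply t _))).1 hmem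

omit [IsCofiltered I] [∀ i, IsAffine (D.obj i)] [∀ i, IsLocallyNoetherian (D.obj i)] in
/-- Base changes of a morphism over a stage commute with the transition maps. -/
theorem slice_natural {k : I} {T W : Scheme.{u}} (a : T ⟶ D.obj k) (b : W ⟶ D.obj k) (s : T ⟶ W)
    (hs : s ≫ b = a) {j j' : Over k} (δ : j ⟶ j') (p₁ p₂) :
    (bcDiagram D a).map δ ≫ (pullback.lift (pullback.fst a (D.map j'.hom) ≫ s)
      (pullback.snd a (D.map j'.hom)) p₁ : pullback a (D.map j'.hom) ⟶ pullback b (D.map j'.hom)) =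
    (pullback.lift (pullback.fst a (D.map j.hom) ≫ s) (pullback.snd a (D.map j.hom)) p₂ :
      pullback a (D.map j.hom) ⟶ pullback b (D.map j.hom)) ≫ (bcDiagram D b).map δ := by
  dsimp [bcDiagram, pullback.map]
  apply pullback.hom_ext
  · simp only [Category.assoc]
    erw [pullback.lift_fst, pullback.lift_fst, pullback.lift_fst_assoc, pullback.lift_fst]
    simp
  · simp only [Category.assoc]
    erw [pullback.lift_snd, pullback.lift_snd, pullback.lift_snd, pullback.lift_snd_assoc]

variable [∀ i j : I, Subsingleton (i ⟶ j)]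

include hc in
/-- The data over a limit of Noetherian affines come from a stage. -/
theorem exists_stage_limit (C : Ctx c.pt) [Finite C.ι] [IsAffine c.pt]
    [LocallyOfFinitePresentation C.px] [LocallyOfFinitePresentation C.py] :
    ∃ (m : I) (C' : Ctx (D.obj m)) (_ : Finite C'.ι) (q : C.W ⟶ C'.W),
      IsPullback q C.pw C'.pw (c.π.app m) ∧
        ∀ {P : Scheme.{u}} (f : P ⟶ C.W), TrivAlong C'.c (f ≫ q) ↔ TrivAlong C.c f := by
  haveI hD : ∀ {i j : I} (g : i ⟶ j), IsAffineHom (D.map g) := fun g => isAffineHom_of_isAffine _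
  haveI : CompactSpace C.X := QuasiCompact.compactSpace_of_compactSpace C.px
  haveI : CompactSpace C.Y := QuasiCompact.compactSpace_of_compactSpace C.py
  haveI : QuasiSeparatedSpace C.X := quasiSeparatedSpace_of_quasiSeparated C.px
  haveI : QuasiSeparatedSpace C.Y := quasiSeparatedSpace_of_quasiSeparated C.py
  obtain ⟨lx, X₁, g₁, q₁, τ₁, -, hX₁, hp₁, hf₁, hτ₁, hστ₁, -⟩ :=
    H2.Rigid.PushFlat.exists_model D c hc C.px C.x₀ C.hx₀ 0
  obtain ⟨ly, Y₁, h₁, r₁, υ₁, -, hY₁, hp₂, hf₂, hυ₁, hσυ₁, -⟩ :=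
    H2.Rigid.PushFlat.exists_model D c hc C.py C.y₀ C.hy₀ 0
  obtain ⟨jx, φx, hjx⟩ := exists_h0_stage D c hc C.px C.hx g₁ q₁ hX₁ τ₁ hτ₁
  obtain ⟨jy, φy, hjy⟩ := exists_h0_stage D c hc C.py C.hy h₁ r₁ hY₁ υ₁ hυ₁
  obtain ⟨k, γx, γy, -⟩ := IsCofilteredOrEmpty.cone_objs jx jy
  let gx := pullback.snd g₁ (D.map (γx ≫ φx))
  let gy := pullback.snd h₁ (D.map (γy ≫ φy))
  let qX : C.X ⟶ pullback g₁ (D.map (γx ≫ φx)) := pullback.lift q₁ (C.px ≫ c.π.app k)
    (by rw [Category.assoc, c.w, hX₁.w])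
  let qY : C.Y ⟶ pullback h₁ (D.map (γy ≫ φy)) := pullback.lift r₁ (C.py ≫ c.π.app k)
    (by rw [Category.assoc, c.w, hY₁.w])
  have hX : IsPullback qX C.px gx (c.π.app k) := FPDescend.move hX₁ _
  have hY : IsPullback qY C.py gy (c.π.app k) := FPDescend.move hY₁ _
  let τx : D.obj k ⟶ pullback g₁ (D.map (γx ≫ φx)) := pullback.lift (D.map (γx ≫ φx) ≫ τ₁) (𝟙 _)
    (by rw [Category.assoc, hτ₁, Category.comp_id, Category.id_comp])
  let τy : D.obj k ⟶ pullback h₁ (D.map (γy ≫ φy)) := pullback.lift (D.map (γy ≫ φy) ≫ υ₁) (𝟙 _)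
    (by rw [Category.assoc, hυ₁, Category.comp_id, Category.id_comp])
  have hσx : C.x₀ ≫ qX = c.π.app k ≫ τx := by
    apply pullback.hom_ext
    · simp only [qX, τx, Category.assoc, pullback.lift_fst]
      rw [hστ₁, ← Category.assoc, c.w]
    · simp only [qX, τx, Category.assoc, pullback.lift_snd]
      rw [reassoc_of% C.hx₀, Category.comp_id]
  have hσy : C.y₀ ≫ qY = c.π.app k ≫ τy := by
    apply pullback.hom_ext
    · simp only [qY, τy, Category.assoc, pullback.lift_fst]
      rw [hσυ₁, ← Category.assoc, c.w]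
    · simp only [qY, τy, Category.assoc, pullback.lift_snd]
      rw [reassoc_of% C.hy₀, Category.comp_id]
  have hgτ : τx ≫ gx = 𝟙 _ := pullback.lift_snd _ _ _
  have hgυ : τy ≫ gy = 𝟙 _ := pullback.lift_snd _ _ _
  let Wk := pullback gx gy
  let ik : pullback h₁ (D.map (γy ≫ φy)) ⟶ Wk := pullback.lift (gy ≫ τx) (𝟙 _)
    (by rw [Category.assoc, hgτ, Category.comp_id, Category.id_comp])
  let jk : pullback g₁ (D.map (γx ≫ φx)) ⟶ Wk := pullback.lift (𝟙 _) (gx ≫ τy)
    (by rw [Category.assoc, hgυ, Category.comp_id, Category.id_comp])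
  haveI : IsProper gx := inferInstanceAs (IsProper (pullback.snd g₁ _))
  haveI : Flat gx := inferInstanceAs (Flat (pullback.snd g₁ _))
  haveI : IsProper gy := inferInstanceAs (IsProper (pullback.snd h₁ _))
  haveI : Flat gy := inferInstanceAs (Flat (pullback.snd h₁ _))
  let Ck : Ctx (D.obj k) :=
    { X := _, Y := _, W := Wk, px := gx, py := gy
      fx := pullback.fst gx gy, fy := pullback.snd gx gy
      H := IsPullback.of_hasPullback gx gy
      isProper_px := inferInstance, flat_px := inferInstance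
      isProper_py := inferInstance, flat_py := inferInstance
      hx := hjx k γx, hy := hjy k γy
      x₀ := τx, hx₀ := hgτ, y₀ := τy, hy₀ := hgυ
      i := ik, hi₁ := pullback.lift_fst _ _ _, hi₂ := pullback.lift_snd _ _ _
      j := jk, hj₁ := pullback.lift_fst _ _ _, hj₂ := pullback.lift_snd _ _ _
      ι := Wk, U := fun x => (exists_isAffineOpen_mem_and_subset (U := ⊤) (Set.mem_univ x)).choose
      hU := fun x => (exists_isAffineOpen_mem_and_subset (U := ⊤) (Set.mem_univ x)).choose_spec.1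
      hUc := top_le_iff.1 fun x _ => Opens.mem_iSup.2
        ⟨x, (exists_isAffineOpen_mem_and_subset (U := ⊤) (Set.mem_univ x)).choose_spec.2.1⟩
      c := FamRank.oneC _
      hi := ⟨fun _ => 1, fun _ => isUnit_one, fun a b => by
        simp only [FamRank.oneC, map_one, Rigid.rf_one, one_mul]⟩
      hj := ⟨fun _ => 1, fun _ => isUnit_one, fun a b => by
        simp only [FamRank.oneC, map_one, Rigid.rf_one, one_mul]⟩ }
  let qW : C.W ⟶ Wk := pullback.lift (C.fx ≫ qX) (C.fy ≫ qY) (by
    rw [Category.assoc, hX.w, Category.assoc, hY.w, ← Category.assoc, C.H.w, Category.assoc])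
  have hW : IsPullback qW C.pw Ck.pw (c.π.app k) := by
    have h1 := C.H.paste_horiz hX
    rw [← hY.w] at h1
    have h2 : IsPullback qW C.fy (pullback.snd gx gy) qY :=
      IsPullback.of_right (by rw [pullback.lift_fst]; exact h1) (pullback.lift_snd _ _ _)
        (IsPullback.of_hasPullback gx gy)
    have h3 := h2.paste_vert hY
    rw [C.pw_eq, Ck.pw_eq]
    exact h3
  have hiW : C.i ≫ qW = qY ≫ ik := by
    apply pullback.hom_ext
    · simp only [qW, ik, Category.assoc, pullback.lift_fst]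
      rw [reassoc_of% C.hi₁, hσx, reassoc_of% hY.w]
    · simp only [qW, ik, Category.assoc, pullback.lift_snd, Category.comp_id]
      rw [reassoc_of% C.hi₂]
  have hjW : C.j ≫ qW = qX ≫ jk := by
    apply pullback.hom_ext
    · simp only [qW, jk, Category.assoc, pullback.lift_fst, Category.comp_id]
      rw [reassoc_of% C.hj₁]
    · simp only [qW, jk, Category.assoc, pullback.lift_snd]
      rw [reassoc_of% C.hj₂, hσy, reassoc_of% hX.w]
  -- the three diagrams
  haveI : ∀ i' j' : Over k, Subsingleton (i' ⟶ j') := fun i' j' =>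
    ⟨fun a b => Over.OverMorphism.ext (Subsingleton.elim _ _)⟩
  haveI : CompactSpace Wk := QuasiCompact.compactSpace_of_compactSpace Ck.pw
  haveI : CompactSpace ((pullback h₁ (D.map (γy ≫ φy)) :) : Scheme.{u}) := QuasiCompact.compactSpace_of_compactSpace gy
  haveI : CompactSpace ((pullback g₁ (D.map (γx ≫ φx)) :) : Scheme.{u}) := QuasiCompact.compactSpace_of_compactSpace gx
  have hsep : ∀ {T : Scheme.{u}} (a : T ⟶ D.obj k) [IsSeparated a] (j' : Over k),
      ((bcDiagram D a).obj j').IsSeparated := fun a _ j' =>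
    ⟨by show IsSeparated (terminal.from (pullback a (D.map j'.hom))); rw [← terminal.comp_from (pullback.snd a (D.map j'.hom))]; infer_instance⟩
  haveI : ∀ j', ((bcDiagram D Ck.pw).obj j').IsSeparated := hsep _
  haveI : ∀ j', ((bcDiagram D gy).obj j').IsSeparated := hsep _
  haveI : ∀ j', ((bcDiagram D gx).obj j').IsSeparated := hsep _
  haveI := fun j' => compactSpace_bcDiagram D Ck.pw j'
  haveI := fun j' => compactSpace_bcDiagram D gy j'
  haveI := fun j' => compactSpace_bcDiagram D gx j'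
  obtain ⟨o, V, hV, hVc, c', hc'⟩ := exists_cocycle (bcDiagram D Ck.pw) (bcCone hW.w)
    (isLimitBcCone hc hW) (U := C.U) C.hU C.hUc C.c
  let io : (bcDiagram D gy).obj o ⟶ (bcDiagram D Ck.pw).obj o := (Ck.bc (D.map o.hom)).i
  let jo : (bcDiagram D gx).obj o ⟶ (bcDiagram D Ck.pw).obj o := (Ck.bc (D.map o.hom)).j
  haveI : QuasiCompact io := inferInstanceAs (QuasiCompact (Ck.bc (D.map o.hom)).i)
  haveI : QuasiCompact jo := inferInstanceAs (QuasiCompact (Ck.bc (D.map o.hom)).j)
  have hio : (bcCone hY.w).π.app o ≫ io = C.i ≫ (bcCone hW.w).π.app o := by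
    apply pullback.hom_ext
    · refine (Category.assoc _ _ _).trans ((congrArg (_ ≫ ·) (pullback.lift_fst _ _ _)).trans
        ((Category.assoc _ _ _).symm.trans ((congrArg (· ≫ _) (pullback.lift_fst _ _ _)).trans ?_)))
      exact hiW.symm.trans ((Category.assoc _ _ _).trans
        (congrArg (_ ≫ ·) (pullback.lift_fst _ _ _))).symm
    · refine (Category.assoc _ _ _).trans ((congrArg (_ ≫ ·) (pullback.lift_snd _ _ _)).trans
        ((pullback.lift_snd _ _ _).trans ?_))
      exact ((Category.assoc _ _ _).trans ((congrArg (_ ≫ ·) (pullback.lift_snd _ _ _)).trans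
        ((Category.assoc _ _ _).symm.trans (congrArg (· ≫ _) C.i_pw)))).symm
  have hjo : (bcCone hX.w).π.app o ≫ jo = C.j ≫ (bcCone hW.w).π.app o := by
    apply pullback.hom_ext
    · refine (Category.assoc _ _ _).trans ((congrArg (_ ≫ ·) (pullback.lift_fst _ _ _)).trans
        ((Category.assoc _ _ _).symm.trans ((congrArg (· ≫ _) (pullback.lift_fst _ _ _)).trans ?_)))
      exact hjW.symm.trans ((Category.assoc _ _ _).trans
        (congrArg (_ ≫ ·) (pullback.lift_fst _ _ _))).symm
    · refine (Category.assoc _ _ _).trans ((congrArg (_ ≫ ·) (pullback.lift_snd _ _ _)).trans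
        ((pullback.lift_snd _ _ _).trans ?_))
      exact ((Category.assoc _ _ _).trans ((congrArg (_ ≫ ·) (pullback.lift_snd _ _ _)).trans
        ((Category.assoc _ _ _).symm.trans (congrArg (· ≫ _) C.j_pw)))).symm
  obtain ⟨oy, gy', hoy⟩ := exists_trivAlong (bcDiagram D gy) (bcCone hY.w) (isLimitBcCone hc hY)
    hV c' io (((hc' C.i).2 C.hi).of_eq hio.symm)
  obtain ⟨ox, gx', hox⟩ := exists_trivAlong (bcDiagram D gx) (bcCone hX.w) (isLimitBcCone hc hX)
    hV c' jo (((hc' C.j).2 C.hj).of_eq hjo.symm)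
  obtain ⟨m, δy, δx, -⟩ := IsCofilteredOrEmpty.cone_objs oy ox
  let g := (bcDiagram D Ck.pw).map (δy ≫ gy')
  have hg' : δx ≫ gx' = δy ≫ gy' := Subsingleton.elim _ _
  have hi : TrivAlong (Triv.comap c' g) (Ck.bc (D.map m.hom)).i := by
    show TrivAlong c' ((Ck.bc (D.map m.hom)).i ≫ g)
    refine (hoy.comp ((bcDiagram D gy).map δy)).of_eq ?_
    rw [← Category.assoc, ← Functor.map_comp]
    exact slice_natural D _ _ _ Ck.i_pw _ _ _
  have hj : TrivAlong (Triv.comap c' g) (Ck.bc (D.map m.hom)).j := by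
    show TrivAlong c' ((Ck.bc (D.map m.hom)).j ≫ g)
    refine (hox.comp ((bcDiagram D gx).map δx)).of_eq ?_
    rw [← Category.assoc, ← Functor.map_comp, hg']
    exact slice_natural D _ _ _ Ck.j_pw _ _ _
  haveI : IsAffineHom g := inferInstanceAs (IsAffineHom ((bcDiagram D Ck.pw).map (δy ≫ gy')))
  let C' : Ctx (D.obj m.left) :=
    { Ck.bc (D.map m.hom) with
      ι := C.ι
      U := fun a => g ⁻¹ᵁ V a
      hU := fun a => (hV a).preimage g
      hUc := (g.preimage_iSup V).symm.trans ((congrArg (g ⁻¹ᵁ ·) hVc).trans g.preimage_top)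
      c := Triv.comap c' g
      hi := hi
      hj := hj }
  refine ⟨m.left, C', ‹Finite C.ι›, (bcCone hW.w).π.app m, ?_, fun f => ?_⟩
  · have e : C'.pw = pullback.snd Ck.pw (D.map m.hom) := pullback.lift_snd _ _ _
    rw [e]
    exact isPullback_bcCone_π hW m
  · refine Iff.trans ?_ (hc' f)
    show TrivAlong c' ((f ≫ (bcCone hW.w).π.app m) ≫ g) ↔ _
    have e : (bcCone hW.w).π.app m ≫ g = (bcCone hW.w).π.app o := (bcCone hW.w).w _
    have e' : (f ≫ (bcCone hW.w).π.app m) ≫ g = f ≫ (bcCone hW.w).π.app o :=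
      (Category.assoc _ _ _).trans (congrArg (f ≫ ·) e)
    exact ⟨fun h => h.of_eq e', fun h => h.of_eq e'.symm⟩

/-- The data over an affine base come from a Noetherian affine base. -/
theorem exists_stage {B : CommRingCat.{u}} (C : Ctx (Spec B)) [Finite C.ι]
    [LocallyOfFinitePresentation C.px] [LocallyOfFinitePresentation C.py] :
    ∃ (R : CommRingCat.{u}) (_ : IsNoetherianRing R) (C' : Ctx (Spec R)) (_ : Finite C'.ι)
      (π : Spec B ⟶ Spec R) (q : C.W ⟶ C'.W), IsPullback q C.pw C'.pw π ∧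
        ∀ {P : Scheme.{u}} (f : P ⟶ C.W), TrivAlong C'.c (f ≫ q) ↔ TrivAlong C.c f := by
  haveI : IsAffine (H2.Rigid.SubDiagram.cone B).pt := inferInstanceAs (IsAffine (Spec B))
  obtain ⟨m, C', hfin, q, h, hiff⟩ := @exists_stage_limit _ _ _ (H2.Rigid.SubDiagram.diagram B)
    (H2.Rigid.SubDiagram.cone B) (H2.Rigid.SubDiagram.isLimitCone B) _ _ _ C ‹Finite C.ι› _
    ‹LocallyOfFinitePresentation C.px› ‹LocallyOfFinitePresentation C.py›
  haveI : Algebra.FiniteType ℤ (Algebra.adjoin ℤ ((m.unop : Finset B) : Set B)) :=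
    (Subalgebra.fg_iff_finiteType _).1 (Subalgebra.fg_def.2 ⟨_, m.unop.finite_toSet, rfl⟩)
  have hN : IsNoetherianRing (Algebra.adjoin ℤ ((m.unop : Finset B) : Set B)) :=
    Algebra.FiniteType.isNoetherianRing ℤ _
  exact ⟨(H2.Rigid.SubDiagram.ringDiagram B).obj m.unop, hN, C', hfin, _, q, h, hiff⟩

end

end Groth.Agent.Lib.Cube.NN
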